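import Cfsg.Agent.Lib.CurtisTits.Iso

/-!
Boolean checks, to be evaluated by the kernel for each tabulated type, which yield the hypotheses of the
isomorphism.
-/

set_option autoImplicit false
set_option linter.unusedSectionVars false

namespace Cfsg.Agent.Lib.CurtisTits

open Cfsg.Lie
open Cfsg.Agent.Lib.ChevStructure

universe u

variable {D : ChevalleyDatum}

/-- The fundamental indices as a list. -/
def idxs (D : ChevalleyDatum) : List (Fin D.rank) := List.finRange D.rank

/-- The roots as a list. -/
def rts (D : ChevalleyDatum) : List (Rt D) := List.finRange D.nroots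

theorem mem_idxs (i : Fin D.rank) : i ∈ idxs D := List.mem_finRange i

theorem mem_rts (r : Rt D) : r ∈ rts D := List.mem_finRange r

/-- Turn natural numbers into fundamental indices. -/
def toIdx (D : ChevalleyDatum) (L : List ℕ) : List (Fin D.rank) :=
  L.filterMap fun i => if h : i < D.rank then some ⟨i, h⟩ else none

variable (C : Core D)

/-- Membership in a subsystem of rank two. -/
def inB (i j : Fin D.rank) (r : Rt D) : Bool :=
  (idxs D).all fun k => decide (k = i) || decide (k = j) || decide (C.v r k = 0)

theorem inB_iff (i j : Fin D.rank) (r : Rt D) : inB C i j r = true ↔ InS C i j r := by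
  simp only [inB, List.all_eq_true, Bool.or_eq_true, decide_eq_true_eq, InS]
  constructor
  · intro H k a b
    rcases H k (mem_idxs k) with (h | h) | h
    · exact absurd h a
    · exact absurd h b
    · exact h
  · intro H k _
    by_cases a : k = i
    · exact Or.inl (Or.inl a)
    · by_cases b : k = j
      · exact Or.inl (Or.inr b)
      · exact Or.inr (H k a b)

/-- Membership in some subsystem of rank two. -/
def basB (r : Rt D) : Bool := (idxs D).any fun i => (idxs D).any fun j => inB C i j r

theorem basB_iff (r : Rt D) : basB C r = true ↔ Bas C r := by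
  simp [basB, List.any_eq_true, inB_iff, Bas, mem_idxs]

/-- The roots of a subsystem of rank two. -/
def sub (i j : Fin D.rank) : List (Rt D) := (rts D).filter (inB C i j)

/-- The roots of a subsystem in the half plane where a functional is positive, ordered by its value. -/
def lst (i j : Fin D.rank) (ci cj : ℤ) : List (Rt D) :=
  let S := sub C i j
  (List.range 20).flatMap fun lev => S.filter fun u => decide (lf i j ci cj (C.v u) = (lev : ℤ) + 1)

/-- The check for `GoodL`. -/
def goodB (i j : Fin D.rank) (ci cj : ℤ) : List (Rt D) → Bool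
  | [] => true
  | a :: T => (decide (0 < lf i j ci cj (C.v a)) && T.all fun y => !decide (y = a) && !decide (y = a.rev) &&
      decide (lf i j ci cj (C.v a) ≤ lf i j ci cj (C.v y)) &&
      (terms a y).all fun e => decide (e.1 ∈ T)) && goodB i j ci cj T

theorem goodB_sound (i j : Fin D.rank) (ci cj : ℤ) :
    ∀ L : List (Rt D), goodB C i j ci cj L = true → GoodL C i j ci cj L
  | [], _ => trivial
  | a :: T, H => by
    simp only [goodB, Bool.and_eq_true, List.all_eq_true, decide_eq_true_eq, Bool.not_eq_eq_eq_not,
      Bool.not_true, decide_eq_false_iff_not] at H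
    obtain ⟨⟨h0, h⟩, h'⟩ := H
    exact ⟨⟨h0, fun y hy => ⟨(h y hy).1.1.1, (h y hy).1.1.2, (h y hy).1.2, (h y hy).2⟩⟩, goodB_sound i j ci cj T h'⟩

/-- The check for `LocL`, in the half plane where the j-th coefficient has the sign of that of r. -/
def locLB (i j : Fin D.rank) (r : Rt D) : Bool :=
  let σ : ℤ := if 0 < C.v r j then 1 else -1
  let L := lst C i j 0 σ
  decide (r ∈ L) && decide (C.w i r ∈ L) && goodB C i j 0 σ L &&
    L.all fun u => inB C i j u && !decide (u = C.p i) && !decide (u = (C.p i).rev) &&
      ((terms (C.p i) u).all fun e => decide (e.1 ∈ L)) &&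
      ((terms (C.p i).rev u).all fun e => decide (e.1 ∈ L))

theorem locLB_sound {i j : Fin D.rank} {r : Rt D} (H : locLB C i j r = true) : LocL C i r := by
  simp only [locLB, Bool.and_eq_true, List.all_eq_true, decide_eq_true_eq, Bool.not_eq_eq_eq_not,
    Bool.not_true, decide_eq_false_iff_not, inB_iff] at H
  obtain ⟨⟨⟨h1, h2⟩, h3⟩, h4⟩ := H
  exact ⟨j, _, _, _, h1, h2, goodB_sound C _ _ _ _ _ h3, fun u hu =>
    ⟨(h4 u hu).1.1.1.1, (h4 u hu).1.1.1.2, (h4 u hu).1.1.2, (h4 u hu).1.2, (h4 u hu).2⟩⟩

/-- Candidates for the functional of the list containing the images of the terms. -/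
def funs : List (ℤ × ℤ) :=
  [(1, 0), (-1, 0), (-1, 1), (1, -1), (-1, 2), (1, -2), (-2, 1), (2, -1), (-1, 3), (1, -3), (-3, 1), (3, -1),
    (-2, 3), (2, -3), (-3, 2), (3, -2), (0, 1), (0, -1), (1, 1), (-1, -1)]

/-- The condition on the images of the terms. -/
def imgB (i j : Fin D.rank) (r β γ : Rt D) (O : List (Term D)) (ci cj : ℤ) : Bool :=
  let L := lst C i j ci cj
  decide (C.w i r ∈ L) && (O.all fun e => decide (C.w i e.1 ∈ L)) &&
    ((terms (C.w i β) (C.w i γ)).all fun e => decide (e.1 ∈ L)) && (L.all fun u => inB C i j u) &&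
    goodB C i j ci cj L

/-- The conditions on the terms of one pair. -/
def splitB (i j : Fin D.rank) (r β γ : Rt D) (T : List (Term D)) (n : ℕ) : Bool :=
  match T[n]? with
  | none => false
  | some e =>
    let O := T.take n ++ T.drop (n + 1)
    decide (e.1 = r) && (decide (e.2.1 = 1) || decide (e.2.1 = -1)) &&
      (decide (e.2.2.1 = 1) || decide (e.2.2.2 = 1)) && (O.all fun x => locLB C i j x.1) &&
      funs.any fun c => imgB C i j r β γ O c.1 c.2

/-- The check for `LocC`. -/
def locCB (i j : Fin D.rank) (r : Rt D) : Bool :=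
  inB C i j r && (sub C i j).any fun β => (sub C i j).any fun γ =>
    !decide (γ = β) && !decide (γ = β.rev) &&
    (let T := terms β γ
    (List.range T.length).any fun n =>
      decide ((T[n]?).map (fun e => e.1) = some r) && inB C i j β && inB C i j γ &&
        locLB C i j β && locLB C i j γ && splitB C i j r β γ T n)

theorem locCB_sound {i j : Fin D.rank} {r : Rt D} (H : locCB C i j r = true) : LocC C i r := by
  simp only [locCB, Bool.and_eq_true, List.any_eq_true, decide_eq_true_eq,
    Bool.not_eq_eq_eq_not, Bool.not_true, decide_eq_false_iff_not, inB_iff] at H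
  obtain ⟨hr, β, -, γ, -, ⟨h1, h2⟩, n, hn, ⟨⟨⟨⟨-, h3⟩, h4⟩, h5⟩, h6⟩, h7⟩ := H
  rw [List.mem_range] at hn
  rw [splitB, List.getElem?_eq_getElem hn] at h7
  simp only [Bool.and_eq_true, Bool.or_eq_true, decide_eq_true_eq, List.all_eq_true, List.any_eq_true,
    imgB, inB_iff] at h7
  obtain ⟨⟨⟨⟨he, hc⟩, hab⟩, hO⟩, ⟨ci, cj⟩, -, ⟨⟨⟨g1, g2⟩, g3⟩, g4⟩, g5⟩ := h7
  generalize hx : (terms β γ)[n] = x at he hc hab
  obtain ⟨q, c, a, b⟩ := x
  simp only at he hc hab
  subst he
  refine ⟨j, β, γ, (terms β γ).take n, (terms β γ).drop (n + 1), c, a, b, locLB_sound C h5, locLB_sound C h6, hr,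
    h3, h4, h1, h2, ?_, hc, hab, fun e he' => locLB_sound C (hO e he'), ci, cj, lst C i j ci cj,
    goodB_sound C _ _ _ _ _ g5, g4, g1, g2, g3⟩
  rw [← hx, List.getElem_cons_drop, List.take_append_drop]

/-- The check for `Loc`. -/
def locB (i j : Fin D.rank) (r : Rt D) : Bool := locLB C i j r || locCB C i j r

theorem locB_sound {i j : Fin D.rank} {r : Rt D} (H : locB C i j r = true) : Loc C i r := by
  rcases (Bool.or_eq_true _ _).mp H with h | h
  · exact Or.inl (locLB_sound C h)
  · exact Or.inr (locCB_sound C h)

/-- `locB` with a suitable second index. -/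
def locA (k a : Fin D.rank) (r : Rt D) : Bool :=
  if k = a then (idxs D).any fun j => !decide (j = k) && locB C k j r else locB C k a r

theorem locA_sound {k a : Fin D.rank} {r : Rt D} (H : locA C k a r = true) : Loc C k r := by
  unfold locA at H
  split_ifs at H
  · simp only [List.any_eq_true, Bool.and_eq_true] at H
    obtain ⟨j, -, -, hj⟩ := H
    exact locB_sound C hj
  · exact locB_sound C H

/-- The check for `Red`, with a bound on the number of steps. -/
def redB : ℕ → Rt D → Bool
  | 0, r => (idxs D).any fun a => decide (r = C.p a) || decide (r = (C.p a).rev)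
  | n + 1, r => redB n r || (idxs D).any fun a => redB n (C.w a r) && (idxs D).any fun j =>
      !decide (j = a) && inB C a j (C.w a r) && locB C a j (C.w a r)

theorem redB_sound : ∀ (n : ℕ) (r : Rt D), redB C n r = true → Red C r
  | 0, r, H => by
    simp only [redB, List.any_eq_true, Bool.or_eq_true, decide_eq_true_eq] at H
    obtain ⟨a, -, ha⟩ := H
    exact Red.simple a ha
  | n + 1, r, H => by
    simp only [redB, Bool.or_eq_true, List.any_eq_true, Bool.and_eq_true] at H
    rcases H with h | ⟨a, -, h, j, -, -, hj⟩
    · exact redB_sound n r h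
    · exact Red.step a (locB_sound C hj) (redB_sound n _ h)

/-- The check for `Base`. -/
def baseB : Bool :=
  ((idxs D).all fun k => (idxs D).all fun a => locA C k a (C.p a) && locA C k a (C.w k (C.p a)) &&
    locA C k a (C.p a).rev && locA C k a (C.w k (C.p a).rev)) &&
  (rts D).all fun r => !basB C r || redB C 3 r

theorem baseB_sound (H : baseB C = true) : Base C := by
  simp only [baseB, Bool.and_eq_true, List.all_eq_true] at H
  refine ⟨fun k a => ?_, fun r hr => ?_⟩
  · obtain ⟨⟨⟨h1, h2⟩, h3⟩, h4⟩ := H.1 k (mem_idxs k) a (mem_idxs a)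
    exact ⟨⟨locA_sound C h1, locA_sound C h2⟩, locA_sound C h3, locA_sound C h4⟩
  · have := H.2 r (mem_rts r)
    simp only [(basB_iff C r).2 hr, Bool.not_true, Bool.false_or] at this
    exact redB_sound C _ _ this

/-- The check for the general hypotheses other than the commutator formula. -/
def hypB : Bool :=
  (rts D).all fun r => ((idxs D).all fun k => decide (co D r k = 0) == decide (C.v r k = 0)) &&
    (((idxs D).any fun k => decide (A D k r = 1) || decide (A D k r = -1)) ||
      (idxs D).any fun j => decide (co D r j = 1) || decide (co D r j = -1))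

theorem hypB_sound (ok : CommOK C) (H : hypB C = true) : Hyp C := by
  simp only [hypB, Bool.and_eq_true, List.all_eq_true, List.any_eq_true, Bool.or_eq_true,
    decide_eq_true_eq, beq_iff_eq, decide_eq_decide] at H
  refine ⟨ok, fun r k => (H r (mem_rts r)).1 k (mem_idxs k), fun r => ?_⟩
  rcases (H r (mem_rts r)).2 with ⟨k, -, hk⟩ | ⟨j, -, hj⟩
  · exact Or.inl ⟨k, hk⟩
  · exact Or.inr ⟨j, hj⟩

/-! ### the tree -/

/-- The word of a root in a table. -/
def wordOf (W : List (List ℕ)) (r : Rt D) : List (Fin D.rank) := toIdx D (W.getD r.val [])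

/-- The check for the table of words. -/
def treeB (W : List (List ℕ)) : Bool :=
  (rts D).all fun r => basB C (act C (wordOf W r).reverse r) && (!basB C r || (wordOf W r).isEmpty)

theorem act_append (a b : List (Fin D.rank)) (r : Rt D) : act C (a ++ b) r = act C a (act C b r) := by
  induction a with
  | nil => rfl
  | cons i a ih => simp [act, ih]

theorem act_reverse (ws : List (Fin D.rank)) (r : Rt D) : act C ws (act C ws.reverse r) = r := by
  induction ws generalizing r with
  | nil => rfl
  | cons i ws ih => rw [List.reverse_cons, act_append, act, act, act, ih, C.w_w]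

/-- The tree of a checked table. -/
def mkTree (W : List (List ℕ)) (H : treeB C W = true) : Tree C where
  wd := wordOf W
  bs r := act C (wordOf W r).reverse r
  act_wd r := act_reverse C _ r
  bs_bas r := by
    simp only [treeB, List.all_eq_true, Bool.and_eq_true] at H
    exact (basB_iff C _).1 (H r (mem_rts r)).1
  wd_bas r hr := by
    simp only [treeB, List.all_eq_true, Bool.and_eq_true] at H
    have := (H r (mem_rts r)).2
    simp only [(basB_iff C r).2 hr, Bool.not_true, Bool.false_or, List.isEmpty_iff] at this
    exact ⟨this, by rw [this]; rfl⟩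

/-! ### the steps -/

/-- The position of an edge in a bit mask. -/
def ix (i : Fin D.rank) (r : Rt D) : ℕ := i.val * D.nroots + r.val

theorem ix_inj {i i' : Fin D.rank} {r r' : Rt D} (e : ix i r = ix i' r') : i = i' ∧ r = r' := by
  have hn : 0 < D.nroots := Fin.pos r
  have e1 := congrArg (fun x => x % D.nroots) e
  have e2 := congrArg (fun x => x / D.nroots) e
  simp [ix, Nat.mul_add_mod_self_right, Nat.mul_add_mod', Nat.mod_eq_of_lt r.isLt, Nat.mod_eq_of_lt r'.isLt] at e1
  have hr : r = r' := Fin.ext e1
  subst hr
  refine ⟨Fin.ext ?_, rfl⟩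
  simp only [ix] at e
  exact Nat.eq_of_mul_eq_mul_right hn (Nat.add_right_cancel e)

/-- All edges of a path are known. -/
def pathB (m : ℕ) : List (Fin D.rank) → Rt D → Bool
  | [], _ => true
  | i :: ws, r => m.testBit (ix i (act C ws r)) && pathB m ws r

/-- The word and target of a step of the last kind. -/
def polyWord (i j : Fin D.rank) : List (Fin D.rank) × Fin D.rank :=
  if A D i (C.p j) = 0 then ([j], i)
  else if A D i (C.p j) * A D j (C.p i) = 1 then ([i, j], j) else ([j, i, j], i)

/-- A single step of a derivation. -/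
def stepB (W : List (List ℕ)) (m : ℕ) (kind : ℕ) (i j : Fin D.rank) (r : Rt D) : Bool :=
  match kind with
  | 0 => locB C i j r
  | 1 => decide (wordOf W (C.w i r) = i :: wordOf W r) &&
      decide (act C (wordOf W (C.w i r)).reverse (C.w i r) = act C (wordOf W r).reverse r)
  | 2 => m.testBit (ix i (C.w i r))
  | _ =>
    let v := (polyWord C i j).1
    let k := (polyWord C i j).2
    decide (act C v (C.p i) = C.p k) && decide (act C v (C.w i r) = C.w k (act C v r)) &&
      pathB C m v (C.p i) && pathB C m v (C.p i).rev && pathB C m v r && pathB C m v (C.w i r) &&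
      m.testBit (ix k (act C v r))

/-- Run a derivation, returning the bit mask of the edges obtained. -/
def runB (W : List (List ℕ)) : ℕ → List ℕ → Option ℕ
  | m, [] => some m
  | m, c :: L =>
    if hi : c / 4 % 16 < D.rank then
      if hj : c / 64 % 16 < D.rank then
        if hr : c / 1024 < D.nroots then
          if stepB C W m (c % 4) ⟨_, hi⟩ ⟨_, hj⟩ ⟨_, hr⟩ then
            runB W (m ||| 2 ^ ix (⟨_, hi⟩ : Fin D.rank) (⟨_, hr⟩ : Rt D)) L
          else none
        else none
      else none
    else none

/-- Everything is reached. -/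
def edgesB (W : List (List ℕ)) (L : List ℕ) : Bool :=
  match runB C W 0 L with
  | none => false
  | some m => (idxs D).all fun i => (rts D).all fun r => m.testBit (ix i r)

section

variable (h : Hyp C) (B : Base C) (W : List (List ℕ)) (hW : treeB C W = true) (K : Type u) [Field K]
include B

theorem pathB_sound {m : ℕ} (H : ∀ i r, m.testBit (ix i r) = true → Edge C h (mkTree C W hW) K i r) :
    ∀ {ws : List (Fin D.rank)} {r : Rt D}, pathB C m ws r = true →
      PathE (Edge C h (mkTree C W hW) K) C ws r
  | [], _, _ => trivial
  | i :: ws, r, e => by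
    simp only [pathB, Bool.and_eq_true] at e
    exact ⟨H _ _ e.1, pathB_sound H e.2⟩

theorem stepB_sound {m kind : ℕ} {i j : Fin D.rank} {r : Rt D}
    (H : ∀ i r, m.testBit (ix i r) = true → Edge C h (mkTree C W hW) K i r)
    (e : stepB C W m kind i j r = true) : Edge C h (mkTree C W hW) K i r := by
  unfold stepB at e
  split at e
  · exact loc_edge C h _ B (locB_sound C e)
  · simp only [Bool.and_eq_true, decide_eq_true_eq] at e
    exact edge_tree C h _ e.1 e.2
  · exact edge_inv C h _ B (H _ _ e)
  · simp only [Bool.and_eq_true, decide_eq_true_eq] at e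
    obtain ⟨⟨⟨⟨⟨⟨e1, e2⟩, e3⟩, e4⟩, e5⟩, e6⟩, e7⟩ := e
    exact edge_poly C h _ B _ e1 e2 (pathB_sound C h B W hW K H e3) (pathB_sound C h B W hW K H e4)
      (pathB_sound C h B W hW K H e5) (pathB_sound C h B W hW K H e6) (H _ _ e7)

theorem runB_sound : ∀ (L : List ℕ) (m m' : ℕ),
    (∀ i r, m.testBit (ix i r) = true → Edge C h (mkTree C W hW) K i r) → runB C W m L = some m' →
      ∀ i r, m'.testBit (ix i r) = true → Edge C h (mkTree C W hW) K i r
  | [], m, m', H, e => by
    simp only [runB, Option.some.injEq] at e
    exact e ▸ H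
  | c :: L, m, m', H, e => by
    simp only [runB] at e
    split at e <;> try cases e
    split at e <;> try cases e
    split at e <;> try cases e
    split at e <;> try cases e
    rename_i hs
    refine runB_sound L _ m' (fun i r hb => ?_) e
    rw [Nat.testBit_or, Bool.or_eq_true] at hb
    rcases hb with hb | hb
    · exact H i r hb
    · rw [Nat.testBit_two_pow, decide_eq_true_eq] at hb
      obtain ⟨rfl, rfl⟩ := ix_inj hb
      exact stepB_sound C h B W hW K H hs

theorem edgesB_sound {L : List ℕ} (e : edgesB C W L = true) :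
    ∀ i r, Edge C h (mkTree C W hW) K i r := by
  intro i r
  unfold edgesB at e
  split at e
  · cases e
  · rename_i m hm
    simp only [List.all_eq_true] at e
    exact runB_sound C h B W hW K L 0 m (fun i r hb => by simp at hb) hm i r (e i (mem_idxs i) r (mem_rts r))

end

/-! ### pairs and decompositions -/

/-- Every representative pair is carried into a common subsystem by one of the words. -/
def pairsB (P : List (List ℕ)) : Bool :=
  C.base.all fun q => decide (q.2 = q.1) || decide (q.2 = q.1.rev) ||
    P.any fun v => (idxs D).any fun a => (idxs D).any fun b =>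
      inB C a b (act C (toIdx D v) q.1) && inB C a b (act C (toIdx D v) q.2)

theorem pairsB_sound {P : List (List ℕ)} (e : pairsB C P = true) :
    ∀ q ∈ C.base, q.2 ≠ q.1 → q.2 ≠ q.1.rev →
      ∃ v a b, InS C a b (act C v q.1) ∧ InS C a b (act C v q.2) := by
  intro q hq h1 h2
  simp only [pairsB, List.all_eq_true, Bool.or_eq_true, decide_eq_true_eq, List.any_eq_true, Bool.and_eq_true,
    inB_iff] at e
  rcases e q hq with (h | h) | ⟨v, -, a, -, b, -, H⟩
  · exact absurd h h1
  · exact absurd h h2
  · exact ⟨_, a, b, H⟩

/-- A root is known to be reached. -/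
def reachedB (m : ℕ) (r : Rt D) : Bool := basB C r || m.testBit r.val

/-- One decomposition step. -/
def decStepB (m : ℕ) (r β γ : Rt D) : Bool :=
  reachedB C m β && reachedB C m γ && !decide (γ = β) && !decide (γ = β.rev) &&
    match terms β γ with
    | [(x, c, a, b)] => decide (x = r) && (decide (c = 1) || decide (c = -1)) && (decide (a = 1) || decide (b = 1))
    | [(y, c0, a0, b0), (x, c, a, b)] =>
      (decide (x = r) && (decide (c = 1) || decide (c = -1)) && (decide (a = 1) || decide (b = 1)) &&
        reachedB C m y) ||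
      (decide (y = r) && (decide (c0 = 1) || decide (c0 = -1)) && (decide (a0 = 1) || decide (b0 = 1)) &&
        reachedB C m x)
    | _ => false

/-- Run the decompositions. -/
def decB : ℕ → List ℕ → Option ℕ
  | m, [] => some m
  | m, e :: L =>
    if hr : e / 65536 < D.nroots then
      if hb : e / 256 % 256 < D.nroots then
        if hg : e % 256 < D.nroots then
          if decStepB C m ⟨_, hr⟩ ⟨_, hb⟩ ⟨_, hg⟩ then decB (m ||| 2 ^ (e / 65536)) L else none
        else none
      else none
    else none

/-- Every root is reached. -/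
def reachB (L : List ℕ) : Bool :=
  match decB C 0 L with
  | none => false
  | some m => (rts D).all (reachedB C m)

theorem reachedB_sound {m : ℕ} (H : ∀ r : Rt D, m.testBit r.val = true → Reach C r) {r : Rt D}
    (e : reachedB C m r = true) : Reach C r := by
  rcases (Bool.or_eq_true _ _).mp e with h | h
  · exact Reach.bas ((basB_iff C r).1 h)
  · exact H r h

theorem decStepB_sound {m : ℕ} {r β γ : Rt D} (H : ∀ r : Rt D, m.testBit r.val = true → Reach C r)
    (e : decStepB C m r β γ = true) : Reach C r := by
  simp only [decStepB, Bool.and_eq_true, Bool.not_eq_eq_eq_not, Bool.not_true, decide_eq_false_iff_not] at e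
  obtain ⟨⟨⟨⟨h1, h2⟩, h3⟩, h4⟩, h5⟩ := e
  split at h5
  · rename_i x c a b hE
    simp only [Bool.and_eq_true, Bool.or_eq_true, decide_eq_true_eq] at h5
    obtain ⟨⟨rfl, hc⟩, hab⟩ := h5
    exact Reach.comm (pre := []) (post := []) h3 h4 (reachedB_sound C H h1) (reachedB_sound C H h2) hE hc hab
      (by simp)
  · rename_i y c0 a0 b0 x c a b hE
    simp only [Bool.and_eq_true, Bool.or_eq_true, decide_eq_true_eq] at h5
    rcases h5 with ⟨⟨⟨rfl, hc⟩, hab⟩, hy⟩ | ⟨⟨⟨rfl, hc⟩, hab⟩, hx⟩
    · exact Reach.comm (pre := [(y, c0, a0, b0)]) (post := []) h3 h4 (reachedB_sound C H h1)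
        (reachedB_sound C H h2) hE hc hab (by simpa using reachedB_sound C H hy)
    · exact Reach.comm (pre := []) (post := [(x, c, a, b)]) h3 h4 (reachedB_sound C H h1)
        (reachedB_sound C H h2) hE hc hab (by simpa using reachedB_sound C H hx)
  · cases h5

theorem decB_sound : ∀ (L : List ℕ) (m m' : ℕ), (∀ r : Rt D, m.testBit r.val = true → Reach C r) →
    decB C m L = some m' → ∀ r : Rt D, m'.testBit r.val = true → Reach C r
  | [], m, m', H, e => by
    simp only [decB, Option.some.injEq] at e
    exact e ▸ H
  | c :: L, m, m', H, e => by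
    simp only [decB] at e
    split at e <;> try cases e
    split at e <;> try cases e
    split at e <;> try cases e
    split at e <;> try cases e
    rename_i hs
    refine decB_sound L _ m' (fun r hb => ?_) e
    rw [Nat.testBit_or, Bool.or_eq_true] at hb
    rcases hb with hb | hb
    · exact H r hb
    · rw [Nat.testBit_two_pow, decide_eq_true_eq] at hb
      have := decStepB_sound C H hs
      exact (Fin.ext hb : (⟨_, ‹c / 65536 < D.nroots›⟩ : Rt D) = r) ▸ this

theorem reachB_sound {L : List ℕ} (e : reachB C L = true) (r : Rt D) : Reach C r := by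
  unfold reachB at e
  split at e
  · cases e
  · rename_i m hm
    simp only [List.all_eq_true] at e
    exact reachedB_sound C (decB_sound C L 0 m (fun r hb => by simp at hb) hm) (e r (mem_rts r))

theorem mk_cert (hm : Mild D) (W : List (List ℕ)) (steps : List ℕ) (P : List (List ℕ)) (dec : List ℕ)
    (h1 : hypB C = true) (h2 : baseB C = true) (h3 : treeB C W = true) (h4 : edgesB C W steps = true)
    (h5 : pairsB C P = true) (h6 : reachB C dec = true) : Cert.{u} C (mkTree C W h3) :=
  have hh := hypB_sound C (C.commOK_mild hm) h1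
  { hyp := hh
    base := baseB_sound C h2
    edges := fun K _ => edgesB_sound C hh (baseB_sound C h2) W h3 K h4
    comm := fun K _ => comm_all C hh (mkTree C W h3) hm (edgesB_sound C hh (baseB_sound C h2) W h3 K h4)
      (pairsB_sound C h5)
    reach := reachB_sound C h6 }

/-- Every root lies in the subsystem of the first two fundamental roots. -/
def allB (i j : Fin D.rank) : Bool := (rts D).all (inB C i j)

/-- Every edge is local. -/
def edgesLocB : Bool :=
  (idxs D).all fun i => (rts D).all fun r => (idxs D).any fun j => !decide (j = i) && locB C i j r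

/-- The certificate in rank two, where every root is basic. -/
theorem mk_cert_two (ok : CommOK C) (i j : Fin D.rank) (h0 : allB C i j = true) (h1 : hypB C = true)
    (h2 : baseB C = true) (h3 : treeB C [] = true) (h4 : edgesLocB C = true) :
    Cert.{u} C (mkTree C [] h3) := by
  have hh := hypB_sound C ok h1
  have hall : ∀ r, InS C i j r := fun r => by
    simp only [allB, List.all_eq_true] at h0
    exact (inB_iff C i j r).1 (h0 r (mem_rts r))
  refine
    { hyp := hh
      base := baseB_sound C h2
      edges := fun K _ => ?_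
      comm := fun K _ r s a b => comm_bas C hh (mkTree C [] h3) (hall r) (hall s) a b
      reach := fun r => Reach.bas (bas_of C (hall r)) }
  intro i r
  simp only [edgesLocB, List.all_eq_true, List.any_eq_true, Bool.and_eq_true] at h4
  obtain ⟨j, -, -, hj⟩ := h4 i (mem_idxs i) r (mem_rts r)
  exact loc_edge C hh _ (baseB_sound C h2) (locB_sound C hj)

end Cfsg.Agent.Lib.CurtisTits
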