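import Cfsg.Agent.Lib.CurtisTits.Check

/-! The kernel checks for type B2. -/

set_option autoImplicit false
set_option maxRecDepth 100000

namespace Cfsg.Agent.Lib.CurtisTits.CertB2

open Cfsg.Lie
open Cfsg.Agent.Lib.ChevStructure

universe u

theorem hyp : hypB Cert.B2.core = true := by decide +kernel
theorem base : baseB Cert.B2.core = true := by decide +kernel
theorem tree : treeB Cert.B2.core [] = true := by decide +kernel
theorem edges : edgesLocB Cert.B2.core = true := by decide +kernel

/-- the first fundamental index -/
def i0 : Fin chevB2.rank := ⟨0, by decide⟩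

/-- the second fundamental index -/
def i1 : Fin chevB2.rank := ⟨1, by decide⟩

theorem allIn : allB Cert.B2.core i0 i1 = true := by decide +kernel

theorem cert : CurtisTits.Cert.{u} Cert.B2.core (mkTree Cert.B2.core [] tree) :=
  mk_cert_two Cert.B2.core (Cert.B2.core.commOK_mild mildB2) i0 i1 allIn hyp base tree edges

end Cfsg.Agent.Lib.CurtisTits.CertB2
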