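import Cfsg.Agent.Lib.CurtisTits.Data.E7
import Cfsg.Agent.Lib.ChevStructure.Cert.E7
import Cfsg.Agent.Lib.ChevStructure.CheckMild

/-! The kernel checks for type E7. -/

set_option autoImplicit false
set_option maxRecDepth 100000

namespace Cfsg.Agent.Lib.CurtisTits.CertE7

open Cfsg.Lie
open Cfsg.Agent.Lib.ChevStructure

universe u

theorem mild : Mild chevE7 := Cert.E7.certified.mild (by decide +kernel)
theorem hyp : hypB Cert.E7.core = true := by decide +kernel
theorem base : baseB Cert.E7.core = true := by decide +kernel
theorem tree : treeB Cert.E7.core Data.E7.words = true := by decide +kernel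
theorem edges : edgesB Cert.E7.core Data.E7.words Data.E7.steps = true := by decide +kernel
theorem pairs : pairsB Cert.E7.core Data.E7.pairWords = true := by decide +kernel
theorem reach : reachB Cert.E7.core Data.E7.dec = true := by decide +kernel

theorem cert : CurtisTits.Cert.{u} Cert.E7.core (mkTree Cert.E7.core Data.E7.words tree) :=
  mk_cert Cert.E7.core mild _ Data.E7.steps Data.E7.pairWords Data.E7.dec hyp base tree edges pairs reach

end Cfsg.Agent.Lib.CurtisTits.CertE7
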