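import Cfsg.Agent.Lib.CurtisTits.Data.E8
import Cfsg.Agent.Lib.ChevStructure.Cert.E8
import Cfsg.Agent.Lib.ChevStructure.CheckMild

/-! The kernel checks for type E8. -/

set_option autoImplicit false
set_option maxRecDepth 100000

namespace Cfsg.Agent.Lib.CurtisTits.CertE8

open Cfsg.Lie
open Cfsg.Agent.Lib.ChevStructure

universe u

theorem mild : Mild chevE8 := Cert.E8.certified.mild (by decide +kernel)
theorem hyp : hypB Cert.E8.core = true := by decide +kernel
theorem base : baseB Cert.E8.core = true := by decide +kernel
theorem tree : treeB Cert.E8.core Data.E8.words = true := by decide +kernel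
theorem edges : edgesB Cert.E8.core Data.E8.words Data.E8.steps = true := by decide +kernel
theorem pairs : pairsB Cert.E8.core Data.E8.pairWords = true := by decide +kernel
theorem reach : reachB Cert.E8.core Data.E8.dec = true := by decide +kernel

theorem cert : CurtisTits.Cert.{u} Cert.E8.core (mkTree Cert.E8.core Data.E8.words tree) :=
  mk_cert Cert.E8.core mild _ Data.E8.steps Data.E8.pairWords Data.E8.dec hyp base tree edges pairs reach

end Cfsg.Agent.Lib.CurtisTits.CertE8
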