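import Cfsg.Agent.Lib.CurtisTits.Data.F4
import Cfsg.Agent.Lib.ChevStructure.Cert.F4
import Cfsg.Agent.Lib.ChevStructure.CheckMild

/-! The kernel checks for type F4. -/

set_option autoImplicit false
set_option maxRecDepth 100000

namespace Cfsg.Agent.Lib.CurtisTits.CertF4

open Cfsg.Lie
open Cfsg.Agent.Lib.ChevStructure

universe u

theorem mild : Mild chevF4 := Cert.F4.certified.mild (by decide +kernel)
theorem hyp : hypB Cert.F4.core = true := by decide +kernel
theorem base : baseB Cert.F4.core = true := by decide +kernel
theorem tree : treeB Cert.F4.core Data.F4.words = true := by decide +kernel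
theorem edges : edgesB Cert.F4.core Data.F4.words Data.F4.steps = true := by decide +kernel
theorem pairs : pairsB Cert.F4.core Data.F4.pairWords = true := by decide +kernel
theorem reach : reachB Cert.F4.core Data.F4.dec = true := by decide +kernel

theorem cert : CurtisTits.Cert.{u} Cert.F4.core (mkTree Cert.F4.core Data.F4.words tree) :=
  mk_cert Cert.F4.core mild _ Data.F4.steps Data.F4.pairWords Data.F4.dec hyp base tree edges pairs reach

end Cfsg.Agent.Lib.CurtisTits.CertF4
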