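import Cfsg.Agent.Lib.CurtisTits.Steinberg
import Cfsg.Agent.Lib.CurtisTits.CertB2
import Cfsg.Agent.Lib.CurtisTits.CertG2
import Cfsg.Agent.Lib.CurtisTits.CertD4
import Cfsg.Agent.Lib.CurtisTits.CertF4
import Cfsg.Agent.Lib.CurtisTits.CertE6
import Cfsg.Agent.Lib.CurtisTits.CertE7
import Cfsg.Agent.Lib.CurtisTits.CertE8

/-! The certificates of the seven tabulated data, together. -/

set_option autoImplicit false
set_option maxRecDepth 100000

namespace Cfsg.Agent.Lib.CurtisTits

open Cfsg.Lie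
open Cfsg.Agent.Lib.ChevStructure

universe u

theorem suppOne_B2 : SuppOne Cert.B2.core := suppOneB_sound (by decide +kernel)
theorem suppOne_G2 : SuppOne Cert.G2.core := suppOneB_sound (by decide +kernel)
theorem suppOne_D4 : SuppOne Cert.D4.core := suppOneB_sound (by decide +kernel)
theorem suppOne_F4 : SuppOne Cert.F4.core := suppOneB_sound (by decide +kernel)
theorem suppOne_E6 : SuppOne Cert.E6.core := suppOneB_sound (by decide +kernel)
theorem suppOne_E7 : SuppOne Cert.E7.core := suppOneB_sound (by decide +kernel)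
theorem suppOne_E8 : SuppOne Cert.E8.core := suppOneB_sound (by decide +kernel)

/-- The certificate of any of the seven data. -/
theorem cert_all (D : ChevalleyDatum)
    (hD : D ∈ [chevG2, chevB2, chevD4, chevF4, chevE6, chevE7, chevE8]) :
    ∃ (C : Core D) (T : Tree C), SuppOne C ∧ CurtisTits.Cert.{u} C T := by
  simp only [List.mem_cons, List.not_mem_nil, or_false] at hD
  rcases hD with rfl | rfl | rfl | rfl | rfl | rfl | rfl
  · exact ⟨_, _, suppOne_G2, CertG2.cert⟩
  · exact ⟨_, _, suppOne_B2, CertB2.cert⟩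
  · exact ⟨_, _, suppOne_D4, CertD4.cert⟩
  · exact ⟨_, _, suppOne_F4, CertF4.cert⟩
  · exact ⟨_, _, suppOne_E6, CertE6.cert⟩
  · exact ⟨_, _, suppOne_E7, CertE7.cert⟩
  · exact ⟨_, _, suppOne_E8, CertE8.cert⟩

end Cfsg.Agent.Lib.CurtisTits
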