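import Cfsg.Agent.Lib.CurtisTits.Steinberg

/-!
Over a finite field the elements h̄ of the fundamental roots multiply in the group presented without the
relators on the h̄: Steinberg's argument for the triviality of the symbol.
-/

set_option autoImplicit false
set_option linter.unusedSectionVars false

namespace Cfsg.Agent.Lib.CurtisTits

open Cfsg.Lie
open Cfsg.Agent.Lib.ChevStructure

universe u

/-- A map of a cyclic group, multiplicative modulo the centre and twisted by squares under conjugation, is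
multiplicative as soon as it respects the square of a generator. -/
theorem mul_of_cyclic {A G H : Type*} [CommGroup A] [IsCyclic A] [Group G] [Group H] (f : A → G) (π : G →* H)
    (hker : π.ker ≤ Subgroup.center G) (hπ : ∀ a b, π (f (a * b)) = π (f a) * π (f b))
    (hconj : ∀ c u, f c * f u * (f c)⁻¹ = f (c * c * u) * (f (c * c))⁻¹) :
    (∀ s u : A, IsSquare s → f (s * u) = f s * f u) ∧
      ((∀ v : A, ¬ IsSquare v → ∃ a b : A, ¬ IsSquare a ∧ ¬ IsSquare b ∧ f a * f b = f (a * b)) →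
        ∀ a b, f (a * b) = f a * f b) := by
  obtain ⟨v, hv⟩ := IsCyclic.exists_generator (α := A)
  let F : A →* H := MonoidHom.mk' (fun a => π (f a)) hπ
  have hcomm : ∀ a b, Commute (f a) (f b) := by
    have hz : ∀ a, ∃ z ∈ Subgroup.center G, ∃ n : ℤ, f a = z * f v ^ n := by
      intro a
      obtain ⟨n, hn⟩ := Subgroup.mem_zpowers_iff.1 (hv a)
      refine ⟨f a * (f v ^ n)⁻¹, hker ?_, n, by group⟩
      rw [MonoidHom.mem_ker, map_mul, map_inv, map_zpow, ← hn,
        show π (f v) ^ n = F (v ^ n) from (map_zpow F v n).symm]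
      exact mul_inv_cancel _
    intro a b
    obtain ⟨z, hzc, n, ha⟩ := hz a
    obtain ⟨y, hyc, m, hb⟩ := hz b
    have z1 : ∀ g, Commute z g := fun g => (Subgroup.mem_center_iff.1 hzc g).symm
    have y1 : ∀ g, Commute y g := fun g => (Subgroup.mem_center_iff.1 hyc g).symm
    rw [ha, hb]
    exact (z1 _).mul_left (((y1 _).symm).mul_right (Commute.zpow_zpow_self (f v) n m))
  have h1 : ∀ s u : A, IsSquare s → f (s * u) = f s * f u := by
    rintro s u ⟨c, rfl⟩
    have := hconj c u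
    rw [(hcomm c u).eq, mul_inv_cancel_right] at this
    rw [(hcomm (c * c) u).eq, this, inv_mul_cancel_right]
  refine ⟨h1, fun hpair => ?_⟩
  have dec : ∀ a, IsSquare a ∨ ∃ s, IsSquare s ∧ a = s * v := by
    intro a
    obtain ⟨n, hn⟩ := Subgroup.mem_zpowers_iff.1 (hv a)
    rcases Int.even_or_odd n with ⟨k, hk⟩ | ⟨k, hk⟩
    · exact Or.inl ⟨v ^ k, by rw [← hn, hk, zpow_add]⟩
    · exact Or.inr ⟨v ^ k * v ^ k, ⟨_, rfl⟩, by rw [← hn, hk, two_mul, zpow_add, zpow_add, zpow_one]⟩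
  by_cases hsq : IsSquare v
  · intro a b
    rcases dec a with ha | ⟨s, hs, rfl⟩
    · exact h1 a b ha
    · exact h1 _ b (hs.mul hsq)
  obtain ⟨a₀, b₀, ha₀, hb₀, e⟩ := hpair v hsq
  obtain ⟨s, hs, rfl⟩ := (dec a₀).resolve_left ha₀
  obtain ⟨s', hs', rfl⟩ := (dec b₀).resolve_left hb₀
  have key : ∀ s s' : A, IsSquare s → IsSquare s' →
      f (s * v * (s' * v)) = f s * f s' * f (v * v) ∧ f (s * v) * f (s' * v) = f s * f s' * (f v * f v) := by
    intro s s' hs hs'
    constructor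
    · rw [show s * v * (s' * v) = (s * s') * (v * v) by ac_rfl, h1 _ _ (hs.mul hs'), h1 _ _ hs]
    · rw [h1 _ _ hs, h1 _ _ hs', mul_assoc, ← mul_assoc (f v), (hcomm v s').eq]
      group
  have hvv : f (v * v) = f v * f v := by
    rw [(key s s' hs hs').1, (key s s' hs hs').2] at e
    exact (mul_left_cancel e).symm
  intro a b
  rcases dec a with ha | ⟨x, hx, rfl⟩
  · exact h1 a b ha
  rcases dec b with hb | ⟨y, hy, rfl⟩
  · rw [mul_comm, h1 _ _ hb]
    exact hcomm _ _
  rw [(key x y hx hy).1, (key x y hx hy).2, hvv]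

variable {D : ChevalleyDatum} {K : Type u} [Field K] {C : Core D} {T : Tree C}

/-- Steinberg's identities in a group with a pair of root subgroups. -/
theorem sl2_symbol {G : Type*} [Group G] (x y : K → G) (hxa : ∀ a b, x a * x b = x (a + b))
    (hya : ∀ a b, y a * y b = y (a + b)) (w : K → G) (hw : ∀ t, w t = x t * y (-t⁻¹) * x t)
    (hwi : ∀ t, (w t)⁻¹ = w (-t))
    (hx : ∀ t : K, t ≠ 0 → ∀ a, w t * x a * (w t)⁻¹ = y (-a / t ^ 2))
    (hy : ∀ t : K, t ≠ 0 → ∀ b, w t * y b * (w t)⁻¹ = x (-(t ^ 2 * b)))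
    {t u : K} (ht : t ≠ 0) (hu : u ≠ 0) (htu : t + u = 1) :
    (w (-t / u) * w (-1)) * (w t⁻¹ * w (-1)) = w (-u⁻¹) * w (-1) := by
  have hS : ∀ t : K, t ≠ 0 → w t = y (-t⁻¹) * x t * y (-t⁻¹) := by
    intro t ht
    calc w t = (w t * x t * (w t)⁻¹) * (w t * y (-t⁻¹) * (w t)⁻¹) * (w t * x t * (w t)⁻¹) := by
          conv_lhs => rw [show w t = w t * w t * (w t)⁻¹ by group]
          nth_rewrite 2 [hw t]
          group
      _ = _ := by
          rw [hx t ht, hy t ht]
          congr 1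
          · congr 1
            · congr 1; field_simp
            · congr 1; field_simp
          · congr 1; field_simp
  have hy0 : y 0 = 1 := by
    have e := hya 0 0
    rw [add_zero] at e
    exact mul_eq_left.1 e
  have hX : ∀ t : K, t ≠ 0 → x t = y t⁻¹ * w t * y t⁻¹ := by
    intro t ht
    rw [hS t ht, ← mul_assoc, ← mul_assoc, hya, add_neg_cancel, hy0, one_mul, mul_assoc, hya, neg_add_cancel, hy0,
      mul_one]
  set a : K := -t / u with ha
  have ha0 : a ≠ 0 := div_ne_zero (neg_ne_zero.2 ht) hu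
  have h11 : x 1 = y 1 * w 1 * y 1 := by simpa using hX 1 one_ne_zero
  have m1 : w t * y (t * u)⁻¹ = x a * w t := by
    rw [← mul_inv_eq_iff_eq_mul, hy t ht]
    congr 1
    rw [ha]; field_simp
  have m2 : ∀ b, w t * w u * y b = y (u ^ 2 * b / t ^ 2) * (w t * w u) := by
    intro b
    have e1 := hy u hu b
    have e2 := hx t ht (-(u ^ 2 * b))
    rw [show -(-(u ^ 2 * b)) / t ^ 2 = u ^ 2 * b / t ^ 2 by ring] at e2
    rw [← e2, ← e1]
    group
  have e0 : w 1 = w a * (w t * w u) := by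
    have h := h11
    rw [← htu, ← hxa, hX t ht, hX u hu,
      show y t⁻¹ * w t * y t⁻¹ * (y u⁻¹ * w u * y u⁻¹) = y t⁻¹ * (w t * (y t⁻¹ * y u⁻¹)) * w u * y u⁻¹ by group,
      hya, show t⁻¹ + u⁻¹ = (t * u)⁻¹ by field_simp; linear_combination htu, m1,
      show y t⁻¹ * (x a * w t) * w u * y u⁻¹ = y t⁻¹ * x a * (w t * w u * y u⁻¹) by group, m2, hX a ha0,
      show y t⁻¹ * (y a⁻¹ * w a * y a⁻¹) * (y (u ^ 2 * u⁻¹ / t ^ 2) * (w t * w u)) =
        (y t⁻¹ * y a⁻¹) * w a * ((y a⁻¹ * y (u ^ 2 * u⁻¹ / t ^ 2)) * (w t * w u)) by group,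
      hya, hya] at h
    have c1 : t⁻¹ + a⁻¹ = 1 := by rw [ha]; field_simp; linear_combination (-1 : K) * htu
    have c2 : a⁻¹ + u ^ 2 * u⁻¹ / t ^ 2 = u ^ 2 * 1 / t ^ 2 := by
      rw [ha]; field_simp; linear_combination (-1 : K) * htu
    rw [c1, c2, ← m2, htu] at h
    have h2 : y 1 * (w a * (w t * w u)) * y 1 = y 1 * w 1 * y 1 := by rw [← h]; group
    exact (mul_left_cancel (mul_right_cancel h2)).symm
  have hinv : ∀ s : K, s ≠ 0 → w 1 * w s * (w 1)⁻¹ = w s⁻¹ := by
    intro s hs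
    rw [hS s⁻¹ (inv_ne_zero hs), show w 1 * w s * (w 1)⁻¹ =
      (w 1 * x s * (w 1)⁻¹) * (w 1 * y (-s⁻¹) * (w 1)⁻¹) * (w 1 * x s * (w 1)⁻¹) by rw [hw s]; group,
      hx 1 one_ne_zero, hy 1 one_ne_zero]
    simp
  have w1 : w (-1) = (w 1)⁻¹ := (hwi 1).symm
  have wu : w u = (w (-u))⁻¹ := by rw [hwi, neg_neg]
  have i1 := hinv t ht
  have i2 := hinv (-u) (neg_ne_zero.2 hu)
  rw [← neg_inv] at i2
  rw [w1, ← i1, ← i2]
  calc w a * (w 1)⁻¹ * (w 1 * w t * (w 1)⁻¹ * (w 1)⁻¹)
      = (w a * (w t * w u)) * (w 1)⁻¹ * (w 1 * (w u)⁻¹ * (w 1)⁻¹ * (w 1)⁻¹) := by group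
    _ = _ := by rw [← e0, hwi u]; group

section

variable (cert : Cert.{u} C T)
include cert

theorem hh_mul_fin [Finite K] (hs : SuppOne C) (i : Fin D.rank) (a b : Kˣ) :
    hh C i ((a * b : Kˣ) : K) = hh C i (a : K) * hh C i (b : K) := by
  have hP : ∀ (c : Kˣ), hh C i (c : K) * nn C i = (nW C i (c : K) : CTW D K) := fun c => by
    rw [hh, show nW C i (-1 : K) = (nn C i)⁻¹ by rw [nn, nW_inv C cert.hyp], inv_mul_cancel_right]
  have hPr : pr D (C.p i) (C.p i) = 2 := C.pr_self _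
  have hconj : ∀ c u : Kˣ, hh C i (c : K) * hh C i (u : K) * (hh C i (c : K))⁻¹ =
      hh C i ((c * c * u : Kˣ) : K) * (hh C i ((c * c : Kˣ) : K))⁻¹ := by
    intro c u
    have e1 := hh_conj_nW C cert.hyp T cert.base i i c u
    have e2 := hh_conj_nW C cert.hyp T cert.base i i c (-1)
    rw [hPr, zpow_two] at e1 e2
    rw [show ((c * c * -1 : Kˣ) : K) = -((c * c : Kˣ) : K) by simp, ← nW_inv C cert.hyp] at e2
    rw [show hh C i (c : K) * hh C i (u : K) * (hh C i (c : K))⁻¹ =
      (hh C i (c : K) * nW C i (u : K) * (hh C i (c : K))⁻¹) *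
        (hh C i (c : K) * nW C i ((-1 : Kˣ) : K) * (hh C i (c : K))⁻¹) by
        rw [Units.val_neg, Units.val_one]; simp only [hh]; group, e1, e2, ← hP, ← hP]
    group
  obtain ⟨-, H⟩ := mul_of_cyclic (fun c : Kˣ => hh C i (c : K)) (theta C cert.hyp)
    (fun g hg => theta_ker_central cert hs hg)
    (fun a b => by
      simp only [theta_hh C cert.hyp, Core.hD, C.diag_mul]
      congr 1
      funext r
      simp [mul_zpow])
    hconj
  refine H (fun v hv => ?_) a b
  have : Fintype K := Fintype.ofFinite K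
  have hv' : ¬ IsSquare (v : K) := fun ⟨r, hr⟩ =>
    hv ⟨Units.mk0 r (fun e => v.ne_zero (by rw [hr, e, mul_zero])), Units.ext hr⟩
  have hodd : Fintype.card K % 2 = 1 := FiniteField.odd_card_of_char_ne_two fun h2 =>
    hv' (FiniteField.isSquare_of_char_two h2 _)
  obtain ⟨r, q, hrq⟩ := FiniteField.exists_root_sum_quadratic
    (f := (Polynomial.X ^ 2 : Polynomial K)) (g := Polynomial.X ^ 2 - Polynomial.C (v : K))
    (by simp) (Polynomial.degree_X_pow_sub_C (by norm_num) _) hodd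
  simp only [Polynomial.eval_pow, Polynomial.eval_X, Polynomial.eval_sub, Polynomial.eval_C] at hrq
  have hq : q ≠ 0 := fun e => hv' ⟨r, by subst e; linear_combination -hrq⟩
  set s : K := r / q with hsdef
  set t : K := 1 + s ^ 2 with htdef
  have hvt : (v : K) = q ^ 2 * t := by rw [htdef, hsdef]; field_simp; linear_combination -hrq
  have ht : ¬ IsSquare t := fun ht => hv' (by rw [hvt]; exact (IsSquare.sq q).mul ht)
  have ht0 : t ≠ 0 := fun e => ht (by rw [e]; exact IsSquare.zero)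
  have hs0 : s ≠ 0 := fun e => ht (by rw [htdef, e]; simp)
  obtain ⟨e1, e2⟩ := cj_hh_simple C cert.hyp T cert.base i i (1 : Kˣ)
  have hx : ∀ c : K, c ≠ 0 → ∀ a, nW C i c * gen (C.p i) a * (nW C i c)⁻¹ = gen (C.p i).rev (-a / c ^ 2) ∧
      nW C i c * gen (C.p i).rev a * (nW C i c)⁻¹ = gen (C.p i) (-(c ^ 2 * a)) := by
    intro c hc a
    obtain ⟨c', rfl⟩ : ∃ c' : Kˣ, (c' : K) = c := ⟨Units.mk0 c hc, rfl⟩
    obtain ⟨f1, f2⟩ := cj_hh_simple C cert.hyp T cert.base i i c'
    have g1 := Edge.param C cert.hyp T (cert.edges K i (C.p i)) a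
    have g2 := Edge.param C cert.hyp T (cert.edges K i (C.p i).rev) a
    rw [C.w_p, C.η_p, Y_bas C cert.hyp T (bas_p C i), Y_bas C cert.hyp T (bas_p_rev C i)] at g1
    rw [C.w_rev, C.w_p, Fin.rev_rev, C.η_rev, C.η_p, Y_bas C cert.hyp T (bas_p C i),
      Y_bas C cert.hyp T (bas_p_rev C i)] at g2
    have k : ∀ (q : Rt D), Bas C q → cj (hh C i (c' : K)) (Xs C cert.hyp T K q) = Xs C cert.hyp T K q → ∀ z,
        hh C i (c' : K) * gen q z * (hh C i (c' : K))⁻¹ = gen q (((c' ^ pr D (C.p i) q : Kˣ) : K) * z) := by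
      intro q hq f z
      rw [← Y_bas C cert.hyp T hq, ← Y_bas C cert.hyp T hq]
      exact param_of_cj C cert.hyp T f (by rw [theta_hh C cert.hyp, C.hD_X, mul_inv_cancel_right])
    rw [← hP]
    constructor
    · rw [show hh C i (c' : K) * nn C i * gen (C.p i) a * (hh C i (c' : K) * nn C i)⁻¹ =
        hh C i (c' : K) * (nn C i * gen (C.p i) a * (nn C i)⁻¹) * (hh C i (c' : K))⁻¹ by group, g1,
        k _ (bas_p_rev C i) f2]
      rw [show pr D (C.p i) (C.p i).rev = -2 by rw [C.pr_p, C.A_rev, ← C.pr_p, hPr]]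
      congr 1
      simp [zpow_neg, div_eq_mul_inv, mul_comm]
    · rw [show hh C i (c' : K) * nn C i * gen (C.p i).rev a * (hh C i (c' : K) * nn C i)⁻¹ =
        hh C i (c' : K) * (nn C i * gen (C.p i).rev a * (nn C i)⁻¹) * (hh C i (c' : K))⁻¹ by group, g2,
        k _ (bas_p C i) f1, hPr]
      congr 1
      simp [zpow_two, pow_two, mul_assoc]
  have hsym := sl2_symbol (K := K) (gen (C.p i)) (gen (C.p i).rev) (gen_add C cert.hyp (bas_p C i))
    (gen_add C cert.hyp (bas_p_rev C i)) (nW C i) (fun _ => rfl) (nW_inv C cert.hyp i)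
    (fun c hc a => (hx c hc a).1) (fun c hc a => (hx c hc a).2) ht0
    (u := -s ^ 2) (neg_ne_zero.2 (pow_ne_zero _ hs0)) (by rw [htdef]; ring)
  refine ⟨Units.mk0 t ht0 * (Units.mk0 (s ^ 2) (pow_ne_zero _ hs0))⁻¹, (Units.mk0 t ht0)⁻¹, ?_, ?_, ?_⟩
  · intro hsq
    refine ht ?_
    have h2 := (hsq.map (Units.coeHom K)).mul (IsSquare.sq s)
    simpa [mul_assoc, inv_mul_cancel₀ (pow_ne_zero 2 hs0)] using h2
  · intro hsq
    refine ht ?_
    have h2 := (hsq.inv).map (Units.coeHom K)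
    simpa using h2
  · simp only [hh]
    convert hsym using 3 <;> simp [neg_div_neg_eq, div_eq_mul_inv, mul_comm, mul_left_comm, ht0]

theorem hY_mul_cover [Finite K] (hs : SuppOne C) (r : Rt D) (t u : Kˣ) :
    phiW C cert.hyp (hY C T r (t : K) * hY C T r (u : K)) = phiW C cert.hyp (hY C T r ((t * u : Kˣ) : K)) := by
  refine hY_mul_of C cert.hyp T (phiW C cert.hyp) (fun i r => cert.edges K i r) (fun i a b => ?_) r t u
  have e : ∀ c : K, hY C T (C.p i) c = hh C i c := fun c => by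
    simp [hY, hh, nY, nW, Y_bas C cert.hyp T (bas_p C i), Y_bas C cert.hyp T (bas_p_rev C i)]
  rw [e, e, e, hh_mul_fin cert hs]

theorem phi_hY (hs : SuppOne C) (r : Rt D) (c : K) :
    phiW C cert.hyp (hY C T r c) = PresentedGroup.mk (D.steinbergRelsAB K) (D.stH r.val c) := by
  simp only [hY, nY, map_mul, phi_Y cert, ChevalleyDatum.scGen, ChevalleyDatum.stH, ChevalleyDatum.stWord,
    ChevalleyDatum.hWord, ChevalleyDatum.nWord, neg_val C cert.hyp, List.map_cons, List.map_nil,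
    List.cons_append, List.nil_append, List.prod_cons, List.prod_nil, mul_one, mul_assoc]

theorem cover_rels [Finite K] (hs : SuppOne C) : ∀ g ∈ D.steinbergRels K,
    FreeGroup.lift (fun x => (PresentedGroup.of x : D.SteinbergCover K)) g = 1 := by
  intro g hg
  rw [show FreeGroup.lift (fun x => (PresentedGroup.of x : D.SteinbergCover K)) =
    PresentedGroup.mk (D.steinbergRelsAB K) from FreeGroup.ext_hom _ _ fun x => by simp [PresentedGroup.of]]
  rcases hg with hg | ⟨r, t, u, hr, ht, hu, rfl⟩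
  · exact PresentedGroup.one_of_mem (rels := D.steinbergRelsAB K) hg
  · lift r to Rt D using hr
    have := hY_mul_cover cert hs r (Units.mk0 t ht) (Units.mk0 u hu)
    simp only [map_mul, phi_hY cert hs, Units.val_mul, Units.val_mk0] at this
    rw [map_mul, map_mul, map_inv, this, mul_inv_cancel]

/-- Over a finite field the cover is Steinberg's group. -/
def coverEquiv [Finite K] (hs : SuppOne C) : D.SteinbergCover K ≃* D.SteinbergGroup K :=
  MonoidHom.toMulEquiv toSt (PresentedGroup.toGroup (cover_rels cert hs))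
    (PresentedGroup.ext fun x => by
      rw [MonoidHom.comp_apply, show (PresentedGroup.of x : D.SteinbergCover K) =
        PresentedGroup.mk _ (FreeGroup.of x) from rfl, toSt_mk]
      exact PresentedGroup.toGroup.of _)
    (PresentedGroup.ext fun x => by
      rw [MonoidHom.comp_apply, PresentedGroup.toGroup.of, show (PresentedGroup.of x : D.SteinbergCover K) =
        PresentedGroup.mk _ (FreeGroup.of x) from rfl, toSt_mk]
      rfl)

theorem coverEquiv_gen [Finite K] (hs : SuppOne C) (r : ℕ) (t : K) :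
    coverEquiv cert hs (D.scGen K r t) = D.stGen K r t :=
  toSt_mk _

end

end Cfsg.Agent.Lib.CurtisTits
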