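import Cfsg.Agent.Lib.CurtisTits.Edges

/-!
Steinberg's relations in the groups presented by the Curtis–Tits relators, and the isomorphisms with the
groups presented by Steinberg's relators, with or without those on the h̄.
-/

set_option autoImplicit false
set_option linter.unusedSectionVars false

namespace Cfsg.Agent.Lib.CurtisTits

open Cfsg.Lie
open Cfsg.Agent.Lib.ChevStructure
open scoped MatrixGroups Matrix

universe u

variable {D : ChevalleyDatum} {K : Type u} [Field K]

/-- Roots which are reached from the subsystems of rank two through single commutator terms. -/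
inductive Reach (C : Core D) : Rt D → Prop
  | bas {r : Rt D} : Bas C r → Reach C r
  | comm {r β γ : Rt D} {c : ℤ} {a b : ℕ} {pre post : List (Term D)} : γ ≠ β → γ ≠ β.rev →
      Reach C β → Reach C γ → terms β γ = pre ++ (r, c, a, b) :: post → c = 1 ∨ c = -1 → a = 1 ∨ b = 1 →
      (∀ e ∈ pre ++ post, Reach C e.1) → Reach C r

/-- The commutator relation between the candidates. -/
def Comm (C : Core D) (T : Tree C) (K : Type*) [Field K] (r s : Rt D) : Prop :=
  ∀ t u : K, (Y C T s u)⁻¹ * (Y C T r t)⁻¹ * Y C T s u * Y C T r t = evalT (Y C T) t u (terms r s)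

/-- All the hypotheses needed for the isomorphism. -/
structure Cert (C : Core D) (T : Tree C) : Prop where
  hyp : Hyp C
  base : Base C
  edges : ∀ (K : Type u) [Field K], ∀ i r, Edge C hyp T K i r
  comm : ∀ (K : Type u) [Field K], ∀ {r s : Rt D}, s ≠ r → s ≠ r.rev → Comm C T K r s
  reach : ∀ r, Reach C r

theorem act_inj (C : Core D) : ∀ (w : List (Fin D.rank)) {x y : Rt D}, act C w x = act C w y → x = y
  | [], _, _, e => e
  | j :: w, x, y, e => act_inj C w (by
      have e' := congrArg (C.w j) e
      simpa [act, C.w_w] using e')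

section

variable (C : Core D) (h : Hyp C) (T : Tree C)
include C h T

theorem comm_bas {a b : Fin D.rank} {r s : Rt D} (hr : InS C a b r) (hs : InS C a b s) (hne : s ≠ r)
    (hne' : s ≠ r.rev) : Comm C T K r s := by
  intro t u
  rw [Y_bas C h T (bas_of C hr), Y_bas C h T (bas_of C hs), gen_comm C h hr hs hne hne']
  exact evalT_congr _ _ fun e he c =>
    (Y_bas C h T (bas_of C (inS_terms C h hne hne' hr hs e he)) c).symm

theorem comm_w (hm : Mild D) (hE : ∀ i r, Edge C h T K i r) (i : Fin D.rank) {r s : Rt D} (hne' : s ≠ r.rev)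
    (H : Comm C T K r s) : Comm C T K (C.w i r) (C.w i s) := by
  intro t u
  have key : ∀ (x : Rt D) (c : K), Y C T (C.w i x) c = nn C i * Y C T x ((C.η i x : K) * c) * (nn C i)⁻¹ := by
    intro x c
    rw [Edge.param C h T (hE i x), ← mul_assoc, ← Int.cast_mul, C.η_mul_self]
    simp
  have hL : evalT (Y C T) t u (terms (C.w i r) (C.w i s)) =
      nn C i * evalT (Y C T) ((C.η i r : K) * t) ((C.η i s : K) * u) (terms r s) * (nn C i)⁻¹ := by
    rw [terms_w C hm i r s hne']
    induction terms r s with
    | nil => simp [evalT]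
    | cons e L ih =>
      have e1 : evalT (Y C T) t u (mapTerm C i r s e :: L.map (mapTerm C i r s)) =
          Y C T (C.w i e.1) (((mapTerm C i r s e).2.1 : K) * (-t) ^ e.2.2.1 * u ^ e.2.2.2) *
            evalT (Y C T) t u (L.map (mapTerm C i r s)) := by
        simp [evalT, mapTerm]
      rw [List.map_cons, e1, ih, key]
      simp only [evalT, List.map_cons, List.prod_cons]
      have harg : (C.η i e.1 : K) * (((mapTerm C i r s e).2.1 : K) * (-t) ^ e.2.2.1 * u ^ e.2.2.2) =
          (e.2.1 : K) * (-((C.η i r : K) * t)) ^ e.2.2.1 * ((C.η i s : K) * u) ^ e.2.2.2 := by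
        have hq : (C.η i e.1 : K) * (C.η i e.1 : K) = 1 := by
          rw [← Int.cast_mul, C.η_mul_self]; simp
        simp only [mapTerm, Int.cast_mul, Int.cast_pow, ← mul_neg, mul_pow]
        linear_combination ((e.2.1 : K) * (C.η i r : K) ^ e.2.2.1 * (-t) ^ e.2.2.1 *
          ((C.η i s : K) ^ e.2.2.2 * u ^ e.2.2.2)) * hq
      rw [harg]
      group
  rw [hL, key s u, key r t, ← H]
  group

theorem comm_unw (hm : Mild D) (hE : ∀ i r, Edge C h T K i r) (i : Fin D.rank) {r s : Rt D}
    (hne' : s ≠ r.rev) (H : Comm C T K (C.w i r) (C.w i s)) : Comm C T K r s := by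
  have := comm_w C h T hm hE i (C.w_ne_rev i hne') H
  rwa [C.w_w, C.w_w] at this

theorem comm_unact (hm : Mild D) (hE : ∀ i r, Edge C h T K i r) :
    ∀ (v : List (Fin D.rank)) {r s : Rt D}, s ≠ r.rev → Comm C T K (act C v r) (act C v s) →
      Comm C T K r s
  | [], _, _, _, H => H
  | i :: v, r, s, hne', H => by
    refine comm_unact hm hE v hne' (comm_unw C h T hm hE i ?_ H)
    rw [← act_rev]
    exact fun e => hne' (act_inj C v e)

theorem comm_all (hm : Mild D) (hE : ∀ i r, Edge C h T K i r)
    (hP : ∀ q ∈ C.base, q.2 ≠ q.1 → q.2 ≠ q.1.rev →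
      ∃ v a b, InS C a b (act C v q.1) ∧ InS C a b (act C v q.2))
    {r s : Rt D} (hne : s ≠ r) (hne' : s ≠ r.rev) : Comm C T K r s := by
  refine C.ind2 (fun r s => s ≠ r → s ≠ r.rev → Comm C T K r s) ?_ ?_ r s hne' hne hne'
  · intro q hq h1 h2
    obtain ⟨v, a, b, hr, hs⟩ := hP q hq h1 h2
    refine comm_unact C h T hm hE v h2 (comm_bas C h T hr hs (fun e => h1 (act_inj C v e)) ?_)
    rw [← act_rev]
    exact fun e => h2 (act_inj C v e)
  · intro i r s hne' ih h1 _
    exact comm_w C h T hm hE i hne' (ih (fun e => h1 (by rw [e])) hne')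

end

/-- n̄ for any root, built from the candidates. -/
def nY (C : Core D) (T : Tree C) (r : Rt D) (t : K) : CTW D K :=
  Y C T r t * Y C T r.rev (-t⁻¹) * Y C T r t

/-- h̄ for any root, built from the candidates. -/
def hY (C : Core D) (T : Tree C) (r : Rt D) (t : K) : CTW D K := nY C T r t * nY C T r (-1)

theorem lift_of_eq_mk {α : Type*} {rels : Set (FreeGroup α)} (g : FreeGroup α) :
    FreeGroup.lift (fun x => PresentedGroup.of (rels := rels) x) g = PresentedGroup.mk rels g := by
  induction g using FreeGroup.induction_on with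
  | C1 => simp
  | of x => simp [PresentedGroup.of]
  | inv_of x ih => simp [PresentedGroup.of]
  | mul x y hx hy => simp [hx, hy]

/-- The quotient map onto the Curtis–Tits group. -/
def toCT : CTW D K →* D.CurtisTitsGroup K :=
  PresentedGroup.toGroup (f := fun x => PresentedGroup.of x) fun g hg => by
    rw [lift_of_eq_mk]
    exact PresentedGroup.one_of_mem (ctwRels_subset hg)

theorem toCT_mk (g : FreeGroup (Fin D.nroots × K)) :
    toCT (PresentedGroup.mk (ctwRels D K) g) = PresentedGroup.mk (D.curtisTitsRels K) g := by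
  induction g using FreeGroup.induction_on with
  | C1 => simp
  | of x => exact PresentedGroup.toGroup.of _
  | inv_of x ih => rw [map_inv, map_inv, map_inv, ih]
  | mul x y hx hy => rw [map_mul, map_mul, map_mul, hx, hy]

theorem toCT_surj : Function.Surjective (toCT : CTW D K →* D.CurtisTitsGroup K) := by
  intro x
  obtain ⟨g, rfl⟩ := PresentedGroup.mk_surjective (D.curtisTitsRels K) x
  exact ⟨_, toCT_mk g⟩

section

variable (C : Core D) (h : Hyp C) (T : Tree C)
include C h T

theorem nY_inv (r : Rt D) (t : K) : (nY C T r t)⁻¹ = nY C T r (-t) := by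
  simp only [nY, mul_inv_rev, Y_inv C h T, neg_neg, inv_neg, mul_assoc]

theorem hY_mul_of {G : Type*} [Group G] (φ : CTW D K →* G) (hE : ∀ i r, Edge C h T K i r)
    (hb : ∀ (i : Fin D.rank) (t u : Kˣ), φ (hY C T (C.p i) (t : K) * hY C T (C.p i) (u : K)) =
      φ (hY C T (C.p i) ((t * u : Kˣ) : K))) (r : Rt D) :
    ∀ t u : Kˣ, φ (hY C T r (t : K) * hY C T r (u : K)) = φ (hY C T r ((t * u : Kˣ) : K)) := by
  refine C.ind (fun r => ∀ t u : Kˣ, φ (hY C T r (t : K) * hY C T r (u : K)) =
    φ (hY C T r ((t * u : Kˣ) : K))) ?_ ?_ r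
  · exact hb
  · intro i r ih
    set nY' : K → G := fun c => φ (nY C T (C.w i r) c) with hnY'
    have hconj : ∀ c : K, nn C i * nY C T r c * (nn C i)⁻¹ = nY C T (C.w i r) ((C.η i r : K) * c) := by
      intro c
      rw [show nn C i * nY C T r c * (nn C i)⁻¹ = (nn C i * Y C T r c * (nn C i)⁻¹) *
        (nn C i * Y C T r.rev (-c⁻¹) * (nn C i)⁻¹) * (nn C i * Y C T r c * (nn C i)⁻¹) by
          simp only [nY]; group,
        Edge.param C h T (hE i r), Edge.param C h T (hE i r.rev), C.w_rev, C.η_rev, nY]
      rcases C.η_one i r with e | e <;> simp [e, inv_neg]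
    have hh' : ∀ c : K, φ (nn C i) * φ (hY C T r c) * (φ (nn C i))⁻¹ =
        nY' ((C.η i r : K) * c) * nY' (-(C.η i r : K)) := by
      intro c
      simp only [hnY']
      rw [← mul_neg_one (C.η i r : K), ← hconj, ← hconj, hY]
      simp only [map_mul, map_inv]
      group
    have M : ∀ t u : Kˣ, (nY' ((C.η i r : K) * t) * nY' (-(C.η i r : K))) *
        (nY' ((C.η i r : K) * u) * nY' (-(C.η i r : K))) =
        nY' ((C.η i r : K) * (t * u : Kˣ)) * nY' (-(C.η i r : K)) := by
      intro t u
      rw [← hh', ← hh', ← hh', ← ih, map_mul]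
      group
    rcases C.η_one i r with e | e
    · intro t u
      have := M t u
      simpa [e, hY, hnY', map_mul] using this
    · intro t u
      let m : Kˣ → G := fun c => nY' (-(c : K)) * nY' 1
      have hm : ∀ a b : Kˣ, m a * m b = m (a * b) := fun a b => by
        have := M a b
        simpa [e, m] using this
      have key : ∀ c : Kˣ, φ (hY C T (C.w i r) (c : K)) = m c := by
        intro c
        have h1 := hm (-c) (-1)
        have h2 : m (-c * -1) = m c := by simp
        rw [h2] at h1
        have hsq : m (-1) * m (-1) = m 1 := by rw [hm]; simp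
        have hone : m 1 = 1 := by
          have := hm 1 1
          rw [mul_one] at this
          exact mul_eq_left.1 this
        have hinv : (m (-1))⁻¹ = m (-1) := inv_eq_of_mul_eq_one_right (by rw [hsq, hone])
        rw [← h1, ← hinv, hY, map_mul]
        simp only [m, hnY', Units.val_neg, Units.val_one, neg_neg, mul_inv_rev, ← map_inv, nY_inv C h T,
          ← map_mul]
        have e1 : nY C T (C.w i r) (1 : K) * nY C T (C.w i r) (-1) = 1 := by
          rw [← nY_inv C h T]; exact mul_inv_cancel _
        rw [mul_assoc, ← mul_assoc (nY C T (C.w i r) (1 : K)), e1, one_mul]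
      rw [map_mul, key, key, key, hm]

theorem hY_mul (hE : ∀ i r, Edge C h T K i r) (r : Rt D) :
    ∀ t u : Kˣ, toCT (hY C T r (t : K) * hY C T r (u : K)) = toCT (hY C T r ((t * u : Kˣ) : K)) := by
  refine hY_mul_of C h T toCT hE (fun i t u => ?_) r
  have e : ∀ c : K, toCT (hY C T (C.p i) c) =
      PresentedGroup.mk (D.curtisTitsRels K) (D.stH (C.p i).val c) := by
    intro c
    rw [← toCT_mk]
    congr 1
    simp only [hY, nY, Y_bas C h T (bas_p C i), Y_bas C h T (bas_p_rev C i), ChevalleyDatum.stH,
      ChevalleyDatum.stWord, ChevalleyDatum.hWord, ChevalleyDatum.nWord, neg_val C h, gen,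
      List.map_cons, List.map_nil, List.cons_append, List.nil_append, List.prod_cons, List.prod_nil,
      mul_one, map_mul, mul_assoc]
  rw [map_mul, e, e, e, ← map_mul, ← mul_inv_eq_one, ← map_inv, ← map_mul, Units.val_mul]
  exact PresentedGroup.one_of_mem (Or.inr ⟨i.val, i.val, (C.p i).val, (t : K), (u : K),
    (inS_iff C h).2 (inS_p C i i), t.ne_zero, u.ne_zero, rfl⟩)

end

/-- The value on a generator of the map into the Steinberg cover. -/
def phiGen (C : Core D) (K : Type*) [Field K] (x : Fin D.nroots × K) : D.SteinbergCover K :=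
  if Bas C x.1 then D.scGen K x.1.val x.2 else 1

/-- The value on a generator of the map back. -/
def psiGen (C : Core D) (T : Tree C) (K : Type*) [Field K] (x : Fin D.nroots × K) : CTW D K :=
  Y C T x.1 x.2

theorem st_mk_terms {rels : Set (FreeGroup (Fin D.nroots × K))} (L : List (Term D)) (t u : K) :
    PresentedGroup.mk rels
        (D.stWord (L.map fun e => (e.1.val, (e.2.1 : K) * (-t) ^ e.2.2.1 * u ^ e.2.2.2))) =
      evalT (fun r c => PresentedGroup.mk rels (D.stX r.val c)) t u L := by
  simp only [ChevalleyDatum.stWord, evalT, map_list_prod, List.map_map]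
  rfl

section

variable (C : Core D) (h : Hyp C)
include C h

theorem phi_rels : ∀ g ∈ ctwRels D K, FreeGroup.lift (phiGen C K) g = 1 := by
  have hl : ∀ (r : Rt D) (t : K), FreeGroup.lift (phiGen C K) (D.stX r.val t) = phiGen C K (r, t) := by
    intro r t
    simp [ChevalleyDatum.stX]
  rintro g ((⟨r, t, hr, hn, rfl⟩ | ⟨i, j, r, t, u, H, rfl⟩) | ⟨i, j, r, s, t, u, H, H', hne, hne', rfl⟩)
  · lift r to Rt D using hr
    rw [hl, phiGen, if_neg]
    exact fun ⟨a, b, hab⟩ => hn a b ((inS_iff C h).2 hab)
  · obtain ⟨a, b, x, -, -, rfl, hs⟩ := exists_inS C h H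
    simp only [map_mul, map_inv, hl, phiGen, if_pos (bas_of C hs), ChevalleyDatum.scGen]
    rw [← map_inv, ← map_mul, ← map_mul]
    exact PresentedGroup.one_of_mem (Or.inl ⟨x.val, t, u, x.isLt, rfl⟩)
  · obtain ⟨a, b, x, rfl, rfl, rfl, hx⟩ := exists_inS C h H
    lift s to Rt D using H'.1 with y
    have hy : InS C a b y := (inS_iff C h).1 H'
    have h0 : y ≠ x := fun e => hne (congrArg Fin.val e)
    have h1 : y ≠ x.rev := fun e => hne' (by rw [e, neg_val C h x])
    have e1 : FreeGroup.lift (phiGen C K) (D.stWord (D.commWord K x.val y.val t u)) =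
        PresentedGroup.mk (D.steinbergRelsAB K) (D.stWord (D.commWord K x.val y.val t u)) := by
      rw [commWord_eq h.ok x y h0 h1, st_mk_terms]
      simp only [ChevalleyDatum.stWord, map_list_prod, List.map_map, evalT]
      congr 1
      refine List.map_congr_left fun e he => ?_
      simp only [Function.comp_apply, hl, phiGen, ChevalleyDatum.scGen]
      rw [if_pos (bas_of C (inS_terms C h h0 h1 hx hy e he))]
    simp only [map_mul, map_inv, hl, e1, phiGen, if_pos (bas_of C hx), if_pos (bas_of C hy), ChevalleyDatum.scGen]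
    simp only [← map_inv, ← map_mul]
    exact PresentedGroup.one_of_mem (Or.inr ⟨x.val, y.val, t, u, x.isLt, y.isLt, hne, hne', rfl⟩)

/-- The map into the Steinberg cover. -/
def phiW : CTW D K →* D.SteinbergCover K :=
  PresentedGroup.toGroup (phi_rels C h)

theorem phiW_gen {r : Rt D} (hr : Bas C r) (t : K) : phiW C h (gen r t) = D.scGen K r.val t := by
  rw [gen_of, phiW, PresentedGroup.toGroup.of]
  exact if_pos hr

end

theorem scGen_of (r : Rt D) (t : K) : D.scGen K r.val t = PresentedGroup.of (r, t) := by
  simp [ChevalleyDatum.scGen, ChevalleyDatum.stX, PresentedGroup.of]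

section

variable {C : Core D} {T : Tree C} (cert : Cert.{u} C T)
include cert

theorem psi_rels : ∀ g ∈ D.steinbergRelsAB K, FreeGroup.lift (psiGen C T K) g = 1 := by
  have h := cert.hyp
  have hl : ∀ (r : Rt D) (t : K), FreeGroup.lift (psiGen C T K) (D.stX r.val t) = Y C T r t := by
    intro r t
    simp [ChevalleyDatum.stX, psiGen]
  rintro g (⟨r, t, u, hr, rfl⟩ | ⟨r, s, t, u, hr, hs, hne, hne', rfl⟩)
  · lift r to Rt D using hr
    simp only [map_mul, map_inv, hl, Y_add C h T, mul_inv_cancel]
  · lift r to Rt D using hr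
    lift s to Rt D using hs
    have h1 : s ≠ r.rev := fun e => hne' (by rw [e, neg_val C h r])
    have h0 : s ≠ r := fun e => hne (congrArg Fin.val e)
    have e1 : FreeGroup.lift (psiGen C T K) (D.stWord (D.commWord K r.val s.val t u)) =
        evalT (Y C T) t u (terms r s) := by
      rw [commWord_eq h.ok r s h0 h1]
      simp only [ChevalleyDatum.stWord, map_list_prod, List.map_map, evalT]
      congr 1
      refine List.map_congr_left fun e he => ?_
      simp only [Function.comp_apply, hl]
    simp only [map_mul, map_inv, hl, e1, cert.comm K h0 h1 t u, mul_inv_cancel]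

/-- The map from the Steinberg cover. -/
def psiW : D.SteinbergCover K →* CTW D K :=
  PresentedGroup.toGroup (psi_rels cert)

theorem psiW_gen (r : Rt D) (t : K) : psiW cert (D.scGen K r.val t) = Y C T r t := by
  rw [scGen_of, psiW, PresentedGroup.toGroup.of, psiGen]

theorem phi_Y (r : Rt D) : ∀ t : K, phiW C cert.hyp (Y C T r t) = D.scGen K r.val t := by
  have h := cert.hyp
  induction cert.reach r with
  | @bas r hr => exact fun t => by rw [Y_bas C h T hr, phiW_gen C h hr]
  | @comm r β γ c a b pre post hne hne' _ _ hE hc hab _ ihβ ihγ ih =>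
    intro z
    have hst : ∀ t u : K, (D.scGen K γ.val u)⁻¹ * (D.scGen K β.val t)⁻¹ * D.scGen K γ.val u * D.scGen K β.val t =
        evalT (fun x y => D.scGen K x.val y) t u (terms β γ) := by
      intro t u
      simp only [ChevalleyDatum.scGen]
      rw [← st_mk_terms, ← commWord_eq h.ok β γ hne hne', ← mul_inv_eq_one]
      simp only [← map_inv, ← map_mul]
      exact PresentedGroup.one_of_mem (Or.inr ⟨β.val, γ.val, t, u, β.isLt, γ.isLt,
        fun e => hne (Fin.ext e), fun e => hne' (Fin.ext (by rw [e, neg_val C h β])), rfl⟩)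
    have key : ∀ t u : K, phiW C h (Y C T r ((c : K) * (-t) ^ a * u ^ b)) =
        D.scGen K r.val ((c : K) * (-t) ^ a * u ^ b) := by
      intro t u
      have e := congrArg (phiW C h) (cert.comm K hne hne' t u)
      simp only [map_mul, map_inv, ihβ, ihγ, hst, evalT_map, hE] at e
      simp only [evalT, List.map_append, List.map_cons, List.prod_append, List.prod_cons] at e
      have h1 : ∀ L : List (Term D), (∀ x ∈ L, x ∈ pre ++ post) →
          (L.map fun x => phiW C h (Y C T x.1 ((x.2.1 : K) * (-t) ^ x.2.2.1 * u ^ x.2.2.2))).prod =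
          (L.map fun x => D.scGen K x.1.val ((x.2.1 : K) * (-t) ^ x.2.2.1 * u ^ x.2.2.2)).prod := by
        intro L hL
        congr 1
        exact List.map_congr_left fun x hx => ih x (hL x hx) _
      rw [h1 pre (fun x hx => List.mem_append_left _ hx), h1 post (fun x hx => List.mem_append_right _ hx)] at e
      exact (mul_right_cancel (mul_left_cancel e)).symm
    have hc2 : (c : K) * (c : K) = 1 := by
      rcases hc with rfl | rfl <;> simp
    rcases hab with rfl | rfl
    · have := key (-((c : K) * z)) 1
      rwa [one_pow, mul_one, neg_neg, pow_one, ← mul_assoc, hc2, one_mul] at this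
    · have := key (-1) ((c : K) * z)
      rwa [neg_neg, one_pow, mul_one, pow_one, ← mul_assoc, hc2, one_mul] at this

/-- The group of the relators other than those on the h̄ is the Steinberg cover. -/
def ctwEquiv : CTW D K ≃* D.SteinbergCover K :=
  MonoidHom.toMulEquiv (phiW C cert.hyp) (psiW cert)
    (by
      refine PresentedGroup.ext fun ⟨r, t⟩ => ?_
      rw [MonoidHom.comp_apply, MonoidHom.id_apply, ← gen_of]
      by_cases hr : Bas C r
      · rw [phiW_gen C cert.hyp hr, psiW_gen cert, Y_bas C cert.hyp T hr]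
      · rw [gen_not_bas C cert.hyp hr, map_one, map_one])
    (by
      refine PresentedGroup.ext fun ⟨r, t⟩ => ?_
      rw [MonoidHom.comp_apply, MonoidHom.id_apply, ← scGen_of, psiW_gen cert, phi_Y cert])

end

/-- The quotient map of the cover onto Steinberg's group. -/
def toSt : D.SteinbergCover K →* D.SteinbergGroup K :=
  PresentedGroup.toGroup (f := fun x => PresentedGroup.of x) fun g hg => by
    rw [lift_of_eq_mk]
    exact PresentedGroup.one_of_mem (Or.inl hg)

theorem toSt_mk (g : FreeGroup (Fin D.nroots × K)) :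
    toSt (PresentedGroup.mk (D.steinbergRelsAB K) g) = PresentedGroup.mk (D.steinbergRels K) g := by
  induction g using FreeGroup.induction_on with
  | C1 => simp
  | of x => exact PresentedGroup.toGroup.of _
  | inv_of x ih => rw [map_inv, map_inv, map_inv, ih]
  | mul x y hx hy => rw [map_mul, map_mul, map_mul, hx, hy]

section

variable {C : Core D} {T : Tree C} (cert : Cert.{u} C T)
include cert

theorem lift_phiSt (g : FreeGroup (Fin D.nroots × K)) :
    FreeGroup.lift (fun x => toSt (phiGen C K x)) g =
      toSt (FreeGroup.lift (phiGen C K) g) := by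
  induction g using FreeGroup.induction_on with
  | C1 => simp
  | of x => simp
  | inv_of x ih => simp
  | mul x y hx hy => simp [hx, hy]

theorem phiSt_rels : ∀ g ∈ D.curtisTitsRels K, FreeGroup.lift (fun x => toSt (phiGen C K x)) g = 1 := by
  have h := cert.hyp
  rintro g (hg | ⟨i, j, r, t, u, H, ht, hu, rfl⟩)
  · rw [lift_phiSt cert, phi_rels C h g hg, map_one]
  · obtain ⟨a, b, x, -, -, rfl, hs⟩ := exists_inS C h H
    have key : ∀ c : K, FreeGroup.lift (fun x => toSt (phiGen C K x)) (D.stH x.val c) =
        PresentedGroup.mk (D.steinbergRels K) (D.stH x.val c) := by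
      intro c
      rw [lift_phiSt cert, ← toSt_mk]
      congr 1
      simp only [ChevalleyDatum.stH, ChevalleyDatum.stWord, ChevalleyDatum.hWord, ChevalleyDatum.nWord,
        neg_val C h, List.map_cons, List.map_nil, List.cons_append, List.nil_append, List.prod_cons,
        List.prod_nil, mul_one, map_mul, ChevalleyDatum.stX, Fin.is_lt, dite_true, FreeGroup.lift_apply_of,
        phiGen, if_pos (bas_of C hs), if_pos (bas_of C (inS_rev C hs)), ChevalleyDatum.scGen, Fin.eta]
    simp only [map_mul, map_inv, key]
    simp only [← map_inv, ← map_mul]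
    exact PresentedGroup.one_of_mem (Or.inr ⟨x.val, t, u, x.isLt, ht, hu, rfl⟩)

/-- The map into Steinberg's group. -/
def phiSt : D.CurtisTitsGroup K →* D.SteinbergGroup K :=
  PresentedGroup.toGroup (phiSt_rels cert)

theorem phiSt_toCT (g : CTW D K) : phiSt cert (toCT g) = toSt (phiW C cert.hyp g) := by
  obtain ⟨g, rfl⟩ := PresentedGroup.mk_surjective (ctwRels D K) g
  rw [toCT_mk]
  show FreeGroup.lift _ g = toSt (FreeGroup.lift _ g)
  exact lift_phiSt cert g

theorem psiSt_rels : ∀ g ∈ D.steinbergRels K, FreeGroup.lift (fun x => toCT (psiGen C T K x)) g = 1 := by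
  have h := cert.hyp
  have lift_eq : ∀ g : FreeGroup (Fin D.nroots × K),
      FreeGroup.lift (fun x => toCT (psiGen C T K x)) g = toCT (FreeGroup.lift (psiGen C T K) g) := by
    intro g
    induction g using FreeGroup.induction_on with
    | C1 => simp
    | of x => simp
    | inv_of x ih => simp
    | mul x y hx hy => simp [hx, hy]
  rintro g (hg | ⟨r, t, u, hr, ht, hu, rfl⟩)
  · rw [lift_eq, psi_rels cert g hg, map_one]
  · lift r to Rt D using hr
    have key : ∀ c : K, FreeGroup.lift (psiGen C T K) (D.stH r.val c) = hY C T r c := by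
      intro c
      simp only [ChevalleyDatum.stH, ChevalleyDatum.stWord, ChevalleyDatum.hWord, ChevalleyDatum.nWord,
        neg_val C h, List.map_cons, List.map_nil, List.cons_append, List.nil_append, List.prod_cons,
        List.prod_nil, mul_one, map_mul, ChevalleyDatum.stX, Fin.is_lt, dite_true, FreeGroup.lift_apply_of,
        psiGen, hY, nY, mul_assoc, Fin.eta]
    have := hY_mul C h T (cert.edges K) r (Units.mk0 t ht) (Units.mk0 u hu)
    simp only [Units.val_mul, Units.val_mk0, map_mul] at this
    simp only [map_mul, map_inv, lift_eq, key, this, mul_inv_cancel]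

/-- The map into the Curtis–Tits group. -/
def psiSt : D.SteinbergGroup K →* D.CurtisTitsGroup K :=
  PresentedGroup.toGroup (psiSt_rels cert)

theorem stGen_toSt (r : Rt D) (t : K) : toSt (D.scGen K r.val t) = D.stGen K r.val t :=
  toSt_mk _

theorem psiSt_gen (r : Rt D) (t : K) : psiSt cert (D.stGen K r.val t) = toCT (Y C T r t) := by
  have e : D.stGen K r.val t = PresentedGroup.of (r, t) := by
    simp [ChevalleyDatum.stGen, ChevalleyDatum.stX, PresentedGroup.of]
  rw [e, psiSt, PresentedGroup.toGroup.of, psiGen]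

/-- The Curtis–Tits group is Steinberg's group. -/
def ctEquiv : D.CurtisTitsGroup K ≃* D.SteinbergGroup K :=
  MonoidHom.toMulEquiv (phiSt cert) (psiSt cert)
    (by
      refine PresentedGroup.ext fun ⟨r, t⟩ => ?_
      have e : (PresentedGroup.of (r, t) : D.CurtisTitsGroup K) = toCT (gen r t) := by
        rw [gen_of]; exact (PresentedGroup.toGroup.of _).symm
      rw [MonoidHom.comp_apply, MonoidHom.id_apply, e, phiSt_toCT cert]
      by_cases hr : Bas C r
      · rw [phiW_gen C cert.hyp hr, stGen_toSt (K := K) cert, psiSt_gen cert, Y_bas C cert.hyp T hr]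
      · rw [gen_not_bas C cert.hyp hr, map_one, map_one, map_one, map_one])
    (by
      refine PresentedGroup.ext fun ⟨r, t⟩ => ?_
      have e : D.stGen K r.val t = PresentedGroup.of (r, t) := by
        simp [ChevalleyDatum.stGen, ChevalleyDatum.stX, PresentedGroup.of]
      rw [MonoidHom.comp_apply, MonoidHom.id_apply, ← e, psiSt_gen cert, phiSt_toCT cert, phi_Y cert,
        stGen_toSt (K := K) cert])

theorem curtis_tits :
    ∃ e : D.CurtisTitsGroup K ≃* D.SteinbergGroup K,
      ∀ (i j r : ℕ) (t : K), D.InRankTwoSub i j r →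
        e (PresentedGroup.mk (D.curtisTitsRels K) (D.stX r t)) = D.stGen K r t := by
  refine ⟨ctEquiv cert, fun i j r t H => ?_⟩
  obtain ⟨a, b, x, -, -, rfl, hs⟩ := exists_inS C cert.hyp H
  have e : PresentedGroup.mk (D.curtisTitsRels K) (D.stX x.val t) = toCT (gen x t) := (toCT_mk _).symm
  rw [ctEquiv, MonoidHom.toMulEquiv_apply]
  rw [e, phiSt_toCT cert, phiW_gen C cert.hyp (bas_of C hs), stGen_toSt (K := K) cert]

end

end Cfsg.Agent.Lib.CurtisTits
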