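import Cfsg.Agent.Lib.CurtisTits.Embed

/-! The check for a subdiagram with the same structure constants. -/

set_option autoImplicit false

namespace Cfsg.Agent.Lib.CurtisTits

open Cfsg.Lie
open Cfsg.Agent.Lib.ChevStructure

/-- All chains have length at most one. -/
def shortB (D : ChevalleyDatum) : Bool :=
  D.chain.toList.all fun a => a.toList.all fun e => decide (e.2.toList.length ≤ 1)

theorem entry_len {D : ChevalleyDatum} (h : shortB D = true) (r s : ℕ) : (D.chainEntry r s).length ≤ 1 := by
  rw [ChevalleyDatum.chainEntry]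
  cases hf : (D.chain.getD r #[]).toList.find? (fun e => e.1 = s) with
  | none => simp
  | some e =>
    have he := List.mem_of_find?_eq_some hf
    simp only [shortB, List.all_eq_true, decide_eq_true_eq] at h
    by_cases hr : r < D.chain.size
    · rw [show D.chain.getD r #[] = D.chain[r] by simp [Array.getD, hr]] at he
      exact h _ (Array.getElem_mem_toList hr) e he
    · simp [Array.getD, hr] at he

theorem commTerms_short {F : Fast} {D : ChevalleyDatum} (H : Fast.Certified F D) (h : shortB D = true)
    (r s : Rt D) : D.commTerms r.val s.val =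
      if F.code r.val s.val = 0 then []
      else [(Fast.tgt (F.code r.val s.val), Fast.nn (F.code r.val s.val), 1, 1)] := by
  have h0 := H.L.node_succ (s := s.val) (H.lt_n r) 0
  simp only [Fast.node, List.getElem?_cons_zero] at h0
  have hh : (D.chainEntry r.val s.val)[0]? = if F.code r.val s.val = 0 then none
      else some (Fast.tgt (F.code r.val s.val), Fast.nn (F.code r.val s.val)) := by
    split_ifs with hc
    · simpa using h0.1 hc
    · obtain ⟨M', hM, hv, -⟩ := h0.2 hc
      simp only [List.getElem?_cons_succ] at hM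
      simp at hv
      rw [hM, hv]
  have hl : ∀ a b k, 1 ≤ k → (D.chainEntry a b)[k]? = none := fun a b k hk =>
    List.getElem?_eq_none ((entry_len h a b).trans hk)
  split_ifs at hh ⊢ with hc <;>
    simp [ChevalleyDatum.commTerms, ChevalleyDatum.chainRoot, ChevalleyDatum.chainM, hh, hl]

variable (F F' : Fast)

/-- The conditions on a table of a map of roots. -/
def embB (tb : List ℕ) : Bool :=
  allLt F.n fun r =>
    Nat.blt (tb.getD r 0) F'.n && Nat.beq (tb.getD (F.rv r) 0) (F'.rv (tb.getD r 0)) &&
    allLt F.n fun s =>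
      cond (Nat.beq s r) true (!Nat.beq (tb.getD s 0) (tb.getD r 0) &&
        cond (Nat.beq (F.code r s) 0) (Nat.beq (F'.code (tb.getD r 0) (tb.getD s 0)) 0)
          (!Nat.beq (F'.code (tb.getD r 0) (tb.getD s 0)) 0 &&
            Nat.beq (Fast.tgt (F'.code (tb.getD r 0) (tb.getD s 0))) (tb.getD (Fast.tgt (F.code r s)) 0) &&
            decide (Fast.nn (F'.code (tb.getD r 0) (tb.getD s 0)) = Fast.nn (F.code r s))))

variable {F F'} {D D' : ChevalleyDatum}

theorem nbne {a b : ℕ} : (Nat.beq a b = false) ↔ a ≠ b := by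
  constructor
  · rintro h rfl
    simp [Nat.beq_refl] at h
  · intro h
    cases e : Nat.beq a b with
    | false => rfl
    | true => exact absurd (Nat.eq_of_beq_eq_true e) h

/-- The map of roots of a table. -/
def tblMap (D D' : ChevalleyDatum) (h0 : 0 < D'.nroots) (tb : List ℕ) : Rt D → Rt D' :=
  fun r => if h : tb.getD r.val 0 < D'.nroots then ⟨tb.getD r.val 0, h⟩ else ⟨0, h0⟩

/-- The subdiagram of a checked table. -/
def mkEmbed {C : Core D} {C' : Core D'} (H : Fast.Certified F D) (H' : Fast.Certified F' D') (hs : shortB D = true)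
    (hs' : shortB D' = true) (h0 : 0 < D'.nroots) (tb : List ℕ) (hb : embB F F' tb = true)
    (e : Fin D.rank → Fin D'.rank) (he : Function.Injective e)
    (hp : ∀ i, tblMap D D' h0 tb (C.p i) = C'.p (e i)) : Embed C C' := by
  have B := (allLt_iff).1 hb
  have key : ∀ r : Rt D, (tblMap D D' h0 tb r).val = tb.getD r.val 0 := by
    intro r
    have := B r.val (H.lt_n r)
    simp only [Bool.and_eq_true] at this
    rw [tblMap, dif_pos (H'.hn ▸ (by simpa [Nat.blt] using this.1.1))]
  refine ⟨tblMap D D' h0 tb, e, he, fun a b hab => ?_, fun r => Fin.ext ?_, hp, fun r s hne hnr => ?_⟩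
  · by_contra hne
    have h1 := B a.val (H.lt_n a)
    simp only [Bool.and_eq_true] at h1
    have h2 := (allLt_iff).1 h1.2 b.val (H.lt_n b)
    rw [Bool.cond_eq_ite, if_neg (fun e => hne (Fin.ext (Nat.eq_of_beq_eq_true e)).symm)] at h2
    simp only [Bool.and_eq_true, Bool.not_eq_eq_eq_not, Bool.not_true] at h2
    have h3 := congrArg Fin.val hab
    rw [key, key] at h3
    exact nbne.1 h2.1 h3.symm
  · have h1 := B r.val (H.lt_n r)
    simp only [Bool.and_eq_true] at h1
    have h2 : tb.getD (F.rv r.val) 0 = F'.rv (tb.getD r.val 0) := Nat.eq_of_beq_eq_true h1.1.2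
    rw [key, Fin.val_rev, Fin.val_rev, key]
    have e1 : D.nroots = F.n := H.hn
    have e2 : D'.nroots = F'.n := H'.hn
    rw [show D.nroots - (r.val + 1) = F.rv r.val by simp [Fast.rv, e1]; omega, h2]
    simp [Fast.rv, e2]; omega
  · have h1 := B r.val (H.lt_n r)
    simp only [Bool.and_eq_true] at h1
    have h2 := (allLt_iff).1 h1.2 s.val (H.lt_n s)
    rw [Bool.cond_eq_ite, if_neg (fun e => hne (Fin.ext (Nat.eq_of_beq_eq_true e)))] at h2
    rw [commTerms_short H hs, commTerms_short H' hs', key, key]
    simp only [Bool.and_eq_true] at h2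
    by_cases hc : F.code r.val s.val = 0
    · have h4 := h2.2
      rw [Bool.cond_eq_ite, if_pos (by rw [hc]; rfl)] at h4
      rw [if_pos hc, if_pos (Nat.eq_of_beq_eq_true h4), List.map_nil]
    · have h4 := h2.2
      rw [Bool.cond_eq_ite, if_neg (fun e => hc (Nat.eq_of_beq_eq_true e))] at h4
      simp only [Bool.and_eq_true, Bool.not_eq_eq_eq_not, Bool.not_true, decide_eq_true_eq] at h4
      obtain ⟨⟨h5, h6⟩, h7⟩ := h4
      have hq : Fast.tgt (F.code r.val s.val) < D.nroots := by
        obtain ⟨k1, N1, -, -, -⟩ := H.L.code_decode (H.lt_n r) hc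
        have h0' := H.L.node_succ (s := s.val) (H.lt_n r) 0
        simp only [Fast.node, List.getElem?_cons_zero] at h0'
        obtain ⟨M', hM, -, -⟩ := h0'.2 hc
        have := H.node_lt r s 1 _ M' (by simpa [Fast.node] using hM)
        exact lt_of_lt_of_eq this.1 H.hn.symm
      rw [if_neg hc, if_neg (nbne.1 h5)]
      rw [List.map_cons, List.map_nil, extN, dif_pos hq, key, Nat.eq_of_beq_eq_true h6, h7]

end Cfsg.Agent.Lib.CurtisTits
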