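import Cfsg.Agent.Lib.CurtisTits.AllTypes
import Cfsg.Agent.Lib.CurtisTits.Center
import Cfsg.Agent.Lib.CurtisTits.EmbedCheck

/-! The centres of Steinberg's groups of types E6 and E7. -/

set_option autoImplicit false
set_option maxRecDepth 100000
set_option linter.style.longLine false

namespace Cfsg.Agent.Lib.CurtisTits

open Cfsg.Lie
open Cfsg.Agent.Lib.ChevStructure

universe u

/-- The inverse of the Cartan matrix of type E8. -/
def invE8 (i m : Fin chevE8.rank) : ℤ := (([[4,5,7,10,8,6,4,2],[5,8,10,15,12,9,6,3],[7,10,14,20,16,12,8,4],[10,15,20,30,24,18,12,6],[8,12,16,24,20,15,10,5],[6,9,12,18,15,12,8,4],[4,6,8,12,10,8,6,3],[2,3,4,6,5,4,3,2]] : List (List ℤ)).getD i.val []).getD m.val 0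

theorem short_E8 : shortB chevE8 = true := by decide +kernel
theorem invE8_ok : ∀ k m, ∑ i, A chevE8 k (Cert.E8.core.p i) * invE8 i m = if k = m then 1 else 0 := by
  decide +kernel

/-- The map of the roots of type E6 into those of type E8. -/
def embE6tbl : List ℕ := [35,45,51,54,55,61,64,65,68,69,70,73,74,75,76,77,83,86,87,90,91,92,95,96,97,98,101,102,103,104,107,108,109,112,113,116,123,126,127,130,131,132,135,136,137,138,141,142,143,144,147,148,149,152,153,156,162,163,164,165,166,169,170,171,174,175,178,184,185,188,194,204]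

theorem short_E6 : shortB chevE6 = true := by decide +kernel
theorem embE6_ok : embB Data.E6.fast Data.E8.fast embE6tbl = true := by decide +kernel
theorem rank_E6_le : chevE6.rank ≤ chevE8.rank := by decide +kernel
theorem nroots_E8_pos_E6 : 0 < chevE8.nroots := by decide +kernel

theorem embE6_p : ∀ i : Fin chevE6.rank, tblMap chevE6 chevE8 nroots_E8_pos_E6 embE6tbl (Cert.E6.core.p i) =
    Cert.E8.core.p (Fin.castLE rank_E6_le i) := by decide +kernel

/-- Type E6 inside type E8. -/
noncomputable def embE6 : Embed Cert.E6.core Cert.E8.core :=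
  mkEmbed Cert.E6.certified Cert.E8.certified short_E6 short_E8 nroots_E8_pos_E6 embE6tbl embE6_ok
    (Fin.castLE rank_E6_le) (Fin.castLE_injective _) embE6_p

/-- The kernel of the Cartan matrix of type E6 on a torus. -/
noncomputable def kerE6 : KerData chevE6.rank (fun k i => A chevE6 k (Cert.E6.core.p i)) 3 where
  k0 := ⟨0, by decide +kernel⟩
  w := fun k => ([1,0,2,0,1,2] : List ℤ).getD k.val 0
  Y := fun i m => (([[0,1,-1,2,0,-2],[0,2,0,3,1,-1],[0,2,0,4,1,-2],[0,3,0,6,2,-2],[0,2,0,4,2,-1],[0,1,0,2,1,0]] : List (List ℤ)).getD i.val []).getD m.val 0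
  a := fun i => ([4,3,5,6,4,2] : List ℤ).getD i.val 0
  v := fun i => ([0,0,1,-1,0,1] : List ℤ).getD i.val 0
  w_k0 := rfl
  hY := by decide +kernel
  ha := by decide +kernel
  hv := by decide +kernel

theorem card_center_E6 (K : Type u) [Field K] [Finite K] :
    Nat.card (Subgroup.center (chevE6.SteinbergGroup K)) = Nat.gcd 3 (Nat.card K - 1) :=
  card_center CertE6.cert suppOne_E6
    (torus_injective CertE6.cert suppOne_E6 CertE8.cert suppOne_E8 embE6 invE8 invE8_ok) kerE6

/-- The map of the roots of type E7 into those of type E8. -/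
def embE7tbl : List ℕ := [13,20,25,29,32,34,35,39,42,44,45,48,50,51,53,54,55,58,60,61,63,64,65,67,68,69,70,72,73,74,75,76,77,80,82,83,85,86,87,89,90,91,92,94,95,96,97,98,100,101,102,103,104,106,107,108,109,111,112,113,115,116,118,121,123,124,126,127,128,130,131,132,133,135,136,137,138,139,141,142,143,144,145,147,148,149,150,152,153,154,156,157,159,162,163,164,165,166,167,169,170,171,172,174,175,176,178,179,181,184,185,186,188,189,191,194,195,197,200,204,205,207,210,214,219,226]

theorem short_E7 : shortB chevE7 = true := by decide +kernel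
theorem embE7_ok : embB Data.E7.fast Data.E8.fast embE7tbl = true := by decide +kernel
theorem rank_E7_le : chevE7.rank ≤ chevE8.rank := by decide +kernel
theorem nroots_E8_pos_E7 : 0 < chevE8.nroots := by decide +kernel

theorem embE7_p : ∀ i : Fin chevE7.rank, tblMap chevE7 chevE8 nroots_E8_pos_E7 embE7tbl (Cert.E7.core.p i) =
    Cert.E8.core.p (Fin.castLE rank_E7_le i) := by decide +kernel

/-- Type E7 inside type E8. -/
noncomputable def embE7 : Embed Cert.E7.core Cert.E8.core :=
  mkEmbed Cert.E7.certified Cert.E8.certified short_E7 short_E8 nroots_E8_pos_E7 embE7tbl embE7_ok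
    (Fin.castLE rank_E7_le) (Fin.castLE_injective _) embE7_p

/-- The kernel of the Cartan matrix of type E7 on a torus. -/
noncomputable def kerE7 : KerData chevE7.rank (fun k i => A chevE7 k (Cert.E7.core.p i)) 2 where
  k0 := ⟨1, by decide +kernel⟩
  w := fun k => ([0,1,0,0,1,0,1] : List ℤ).getD k.val 0
  Y := fun i m => (([[2,0,3,4,1,2,-1],[2,0,4,6,1,3,-2],[3,0,6,8,2,4,-2],[4,0,8,12,3,6,-3],[3,0,6,9,3,5,-2],[2,0,4,6,2,4,-1],[1,0,2,3,1,2,0]] : List (List ℤ)).getD i.val []).getD m.val 0
  a := fun i => ([4,7,8,12,9,6,3] : List ℤ).getD i.val 0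
  v := fun i => ([0,1,0,-1,1,-1,1] : List ℤ).getD i.val 0
  w_k0 := rfl
  hY := by decide +kernel
  ha := by decide +kernel
  hv := by decide +kernel

theorem card_center_E7 (K : Type u) [Field K] [Finite K] :
    Nat.card (Subgroup.center (chevE7.SteinbergGroup K)) = Nat.gcd 2 (Nat.card K - 1) :=
  card_center CertE7.cert suppOne_E7
    (torus_injective CertE7.cert suppOne_E7 CertE8.cert suppOne_E8 embE7 invE8 invE8_ok) kerE7

end Cfsg.Agent.Lib.CurtisTits
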