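import Cfsg.Agent.Lib.CurtisTits.Local

/-!
The rules by which the relations between n̄_i and the root subgroups outside the subsystems of rank two
follow from those inside them.
-/

set_option autoImplicit false
set_option linter.unusedSectionVars false

namespace Cfsg.Agent.Lib.CurtisTits

open Cfsg.Lie
open Cfsg.Agent.Lib.ChevStructure
open scoped MatrixGroups Matrix

variable {D : ChevalleyDatum} {K : Type*} [Field K]

/-- All edges along a word starting at r. -/
def PathE (P : Fin D.rank → Rt D → Prop) (C : Core D) : List (Fin D.rank) → Rt D → Prop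
  | [], _ => True
  | i :: ws, r => P i (act C ws r) ∧ PathE P C ws r

theorem pathE_split (P : Fin D.rank → Rt D → Prop) (C : Core D) (r : Rt D) :
    ∀ {ws : List (Fin D.rank)}, PathE P C ws r → ∀ a i b, ws = a ++ i :: b → P i (act C b r)
  | [], _, a, i, b, e => by simp at e
  | j :: ws, H, [], i, b, e => by
    obtain ⟨rfl, rfl⟩ := List.cons.inj e
    exact H.1
  | j :: ws, H, x :: a, i, b, e => by
    obtain ⟨-, e'⟩ := List.cons.inj e
    exact pathE_split P C r H.2 a i b e'

section

variable (C : Core D) (h : Hyp C) (T : Tree C) (B : Base C)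
include C h T

theorem edge_tree {i : Fin D.rank} {r : Rt D} (e : T.wd (C.w i r) = i :: T.wd r)
    (e' : T.bs (C.w i r) = T.bs r) : Edge C h T K i r := by
  refine cj_of_param C h T (C.ηU K i r) fun t => ?_
  simp only [Y, e, e', nv, sgn, T.act_wd, Core.ηU]
  have h2 : ((C.η i r * sgn C (T.wd r) (T.bs r) : ℤ) : K) * ((C.η i r : K) * t) =
      (sgn C (T.wd r) (T.bs r) : K) * t := by
    rw [← mul_assoc, ← Int.cast_mul]
    congr 2
    linear_combination sgn C (T.wd r) (T.bs r) * C.η_mul_self i r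
  rw [h2]
  group

theorem edge_inv (B : Base C) {i : Fin D.rank} {r : Rt D} (e : Edge C h T K i (C.w i r)) :
    Edge C h T K i r := by
  have e' : cj (nn C i) (Xs C h T K (C.w i r)) = Xs C h T K r := by rw [e, C.w_w]
  rw [Edge, ← e', ← cj_mul, cj_Hs C h T B _ (nW_one_sq C h i)]

theorem nv_nn (B : Base C) {i k : Fin D.rank} (v : List (Fin D.rank))
    (hp : act C v (C.p i) = C.p k)
    (P1 : PathE (Edge C h T K) C v (C.p i)) (P2 : PathE (Edge C h T K) C v (C.p i).rev) :
    ∃ g ∈ Hs C K, nv C v * nn C i = g * (nn C k * nv C v) := by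
  have q1 := path_param C h T (pathE_split _ C _ P1) (1 : K)
  have q2 := path_param C h T (pathE_split _ C _ P2) (-1 : K)
  rw [Y_bas C h T (bas_p C i), hp, Y_bas C h T (bas_p C k), mul_one] at q1
  rw [Y_bas C h T (bas_p_rev C i), act_rev, hp, Y_bas C h T (bas_p_rev C k), sgn_rev, mul_neg_one] at q2
  set ε : K := (sgn C v (C.p i) : K)
  have hε : ε * ε = 1 := by
    simp only [ε]
    rw [← Int.cast_mul, sgn_mul_self]
    simp
  have hinv : ε⁻¹ = ε := inv_eq_of_mul_eq_one_right hε
  have hn : nv C v * nn C i * (nv C v)⁻¹ = nW C k ε := by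
    rw [show nv C v * nn C i * (nv C v)⁻¹ = (nv C v * gen (C.p i) (1 : K) * (nv C v)⁻¹) *
      (nv C v * gen (C.p i).rev (-1 : K) * (nv C v)⁻¹) * (nv C v * gen (C.p i) (1 : K) * (nv C v)⁻¹) by
        simp only [nn, nW, inv_one]; group, q1, q2, nW, hinv]
  have hh : ∃ g ∈ Hs C K, nW C k ε = g * nn C k := by
    rcases eq_or_eq_neg_of_sq_eq_sq ε 1 (by rw [sq, hε, one_pow]) with e | e <;> rw [e]
    · exact ⟨1, one_mem _, by rw [one_mul]; rfl⟩
    · refine ⟨(nn C k * nn C k)⁻¹, inv_mem (nW_one_sq C h k), ?_⟩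
      rw [← nW_inv C h]
      simp only [nn]
      group
  obtain ⟨g, hg, hgk⟩ := hh
  refine ⟨g, hg, ?_⟩
  rw [← mul_assoc, ← hgk, ← hn]
  group

theorem edge_poly (B : Base C) {i k : Fin D.rank} {r : Rt D} (v : List (Fin D.rank))
    (hp : act C v (C.p i) = C.p k) (hact : act C v (C.w i r) = C.w k (act C v r))
    (P1 : PathE (Edge C h T K) C v (C.p i)) (P2 : PathE (Edge C h T K) C v (C.p i).rev)
    (P3 : PathE (Edge C h T K) C v r) (P4 : PathE (Edge C h T K) C v (C.w i r))
    (Ek : Edge C h T K k (act C v r)) : Edge C h T K i r := by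
  obtain ⟨g, hg, hcomm⟩ := nv_nn C h T B v hp P1 P2
  refine cj_inj (nv C v) ?_
  rw [← cj_mul, hcomm, cj_mul, cj_mul, path_cj C h T (pathE_split _ C _ P3), Ek,
    cj_Hs C h T B _ hg, path_cj C h T (pathE_split _ C _ P4), hact]

end

end Cfsg.Agent.Lib.CurtisTits
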