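import Cfsg.Agent.Lib.CurtisTits.Iso

/-!
The map of the Curtis–Tits group into the general linear group has central kernel: a decomposition of
Bruhat type, in which the words in the n̄ need not be reduced, suffices.
-/

set_option autoImplicit false
set_option linter.unusedSectionVars false

namespace Cfsg.Agent.Lib.CurtisTits

open Cfsg.Lie
open Cfsg.Agent.Lib.ChevStructure
open scoped MatrixGroups Matrix

universe u

variable {D : ChevalleyDatum} {K : Type u} [Field K]

/-- A fundamental root is the only positive root with its support. -/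
def SuppOne (C : Core D) : Prop :=
  ∀ (a : Fin D.rank) (r : Rt D), InS C a a r → r = C.p a ∨ r = (C.p a).rev

/-- The height functional of a root. -/
def ht (C : Core D) (r : Rt D) : ℤ := ChevStructure.phi (C.v r)

/-- The root is positive. -/
def Pos (C : Core D) (r : Rt D) : Prop := 0 < ht C r

/-- The subgroup generated by the positive root subgroups beyond a bound. -/
def Ufrom (C : Core D) (T : Tree C) (K : Type*) [Field K] (k : ℕ) : Subgroup (CTW D K) :=
  Subgroup.closure {g | ∃ (r : Rt D) (t : K), Pos C r ∧ k ≤ r.val ∧ g = Y C T r t}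

/-- The subgroup generated by the positive root subgroups other than that of p_i. -/
def Uno (C : Core D) (T : Tree C) (K : Type*) [Field K] (i : Fin D.rank) : Subgroup (CTW D K) :=
  Subgroup.closure {g | ∃ (r : Rt D) (t : K), Pos C r ∧ r ≠ C.p i ∧ g = Y C T r t}

/-- Matrices which raise weights by more than a bound, except on the diagonal, where they are 1. -/
def Raise (C : Core D) {R : Type*} [CommRing R] (δ : ℤ) (M : Matrix D.Idx D.Idx R) : Prop :=
  ∀ a b, (a = b → M a b = 1) ∧ (a ≠ b → M a b ≠ 0 → δ < ChevStructure.phi (C.wt a) - ChevStructure.phi (C.wt b))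

/-- Matrices which are monomial on the root vectors and keep the span of the coroots. -/
def Mono {R : Type*} [CommRing R] (σ : Rt D → Rt D) (M : Matrix D.Idx D.Idx R) : Prop :=
  (∀ u s, u ≠ σ s → M (Sum.inr u) (Sum.inr s) = 0) ∧ (∀ i s, M (Sum.inl i) (Sum.inr s) = 0) ∧
    ∀ u j, M (Sum.inr u) (Sum.inl j) = 0

section

variable (C : Core D)
include C

theorem ht_rev (r : Rt D) : ht C r.rev = - ht C r := by
  rw [ht, C.v_rev, C.phi_neg, ht]

theorem ht_ne (r : Rt D) : ht C r ≠ 0 := by
  intro e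
  have : ht C r.rev = ht C r := by rw [ht_rev C, e, neg_zero]
  exact C.ne_rev r (C.phi_strict.injective this)

theorem pos_or (r : Rt D) : Pos C r ∨ Pos C r.rev := by
  have := ht_ne C r
  rw [Pos, Pos, ht_rev C]
  omega

theorem pos_p (i : Fin D.rank) : Pos C (C.p i) := by
  simp only [Pos, ht, ChevStructure.phi, C.v_p, Pi.single_apply, ite_mul, one_mul, zero_mul]
  simp

theorem lt_of_ht {r s : Rt D} (e : ht C r < ht C s) : r.val < s.val := by
  by_contra hc
  have : ht C s ≤ ht C r := C.phi_strict.monotone (not_lt.1 hc : s ≤ r)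
  omega

theorem ht_lt {r s : Rt D} (e : r.val < s.val) : ht C r < ht C s := C.phi_strict (e : r < s)

theorem pos_w (hs : SuppOne C) {i : Fin D.rank} {r : Rt D} (hr : Pos C r) (hne : r ≠ C.p i) :
    Pos C (C.w i r) ∧ C.w i r ≠ C.p i := by
  have hneq : r ≠ (C.p i).rev := by
    intro e
    have h1 := pos_p C i
    rw [Pos, e, ht_rev C] at hr
    rw [Pos] at h1
    omega
  have hhalf : D.nroots ≤ 2 * r.val := by
    by_contra hc
    have h2 : r.val < r.rev.val := by
      have hnr := C.ne_rev r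
      rw [Ne, Fin.ext_iff, Fin.val_rev] at hnr
      rw [Fin.val_rev]
      omega
    have := ht_lt C h2
    rw [ht_rev C] at this
    rw [Pos] at hr
    omega
  refine ⟨?_, fun e => hneq ?_⟩
  · rcases pos_or C (C.w i r) with h | h
    · exact h
    exfalso
    have hhalf' : D.nroots ≤ 2 * (C.w i r).rev.val := by
      by_contra hc
      have h2 : (C.w i r).rev.val < (C.w i r).val := by
        have h3 := Fin.val_rev (C.w i r)
        have hnr : (C.w i r).rev.val ≠ (C.w i r).val := fun e => C.ne_rev _ (Fin.ext e)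
        omega
      have := ht_lt C h2
      rw [Pos] at h
      rw [ht_rev C] at this h
      omega
    have h0 : ∀ k, k ≠ i → k ≠ i → C.v r k = 0 := by
      intro k hk _
      have h1 := C.v_sign r hhalf k
      have h2 := C.v_sign _ hhalf' k
      rw [C.v_rev, C.v_w] at h2
      simp [hk] at h2
      omega
    rcases hs i r h0 with e | e
    · exact hne e
    · exact hneq e
  · have := congrArg (C.w i) e
    rwa [C.w_w, C.w_p] at this

theorem raise_mul {R : Type*} [CommRing R] {δ : ℤ} (hδ : 0 ≤ δ) {M N : Matrix D.Idx D.Idx R}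
    (hM : Raise C δ M) (hN : Raise C δ N) : Raise C δ (M * N) := by
  intro a b
  constructor
  · rintro rfl
    rw [Matrix.mul_apply, Finset.sum_eq_single a]
    · rw [(hM a a).1 rfl, (hN a a).1 rfl, one_mul]
    · intro x _ hx
      by_contra hne
      have h1 := (hM a x).2 (Ne.symm hx) (left_ne_zero_of_mul hne)
      have h2 := (hN x a).2 hx (right_ne_zero_of_mul hne)
      omega
    · simp
  · intro hab hne
    rw [Matrix.mul_apply] at hne
    obtain ⟨x, -, hx⟩ := Finset.exists_ne_zero_of_sum_ne_zero hne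
    rcases eq_or_ne a x with rfl | h1
    · exact (hN a b).2 hab (right_ne_zero_of_mul hx)
    rcases eq_or_ne x b with rfl | h2
    · exact (hM a x).2 hab (left_ne_zero_of_mul hx)
    have e1 := (hM a x).2 h1 (left_ne_zero_of_mul hx)
    have e2 := (hN x b).2 h2 (right_ne_zero_of_mul hx)
    omega

theorem raise_X {δ : ℤ} (hδ : 0 ≤ δ) {r : Rt D} (hr : δ < ht C r) (t : K) : Raise C δ (xI D K r t) := by
  have key : ∀ a b (k : ℕ), E D (k + 1) r a b ≠ 0 → δ < ChevStructure.phi (C.wt a) - ChevStructure.phi (C.wt b) := by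
    intro a b k e
    have := C.E_weight (k + 1) r a b e
    rw [this, C.phi_add, C.phi_smul]
    rw [ht] at hr
    push_cast
    nlinarith [Int.natCast_nonneg k]
  intro a b
  have hz : ∀ k, ¬ δ < ChevStructure.phi (C.wt a) - ChevStructure.phi (C.wt b) → E D (k + 1) r a b = 0 := fun k hn => by
    by_contra e
    exact hn (key a b k e)
  constructor
  · rintro rfl
    have hn : ¬ δ < ChevStructure.phi (C.wt a) - ChevStructure.phi (C.wt a) := by omega
    simp [xI, Finset.sum_range_succ, Ek, Matrix.map_apply, hz 0 hn, hz 1 hn, hz 2 hn, C.Ek_zero,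
      show E D 0 r = 1 from rfl]
  · intro hab hne
    by_contra hn
    simp [xI, Finset.sum_range_succ, Ek, hz 0 hn, hz 1 hn, hz 2 hn, hab, show E D 0 r = 1 from rfl] at hne

theorem mono_mul {R : Type*} [CommRing R] {σ τ : Rt D → Rt D} {M N : Matrix D.Idx D.Idx R}
    (hM : Mono σ M) (hN : Mono τ N) : Mono (σ ∘ τ) (M * N) := by
  refine ⟨fun u s hu => ?_, fun i s => ?_, fun u j => ?_⟩ <;> rw [Matrix.mul_apply] <;>
    refine Finset.sum_eq_zero fun x _ => ?_ <;> rcases x with x | x
  · rw [hM.2.2 u x, zero_mul]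
  · by_cases hx : x = τ s
    · subst hx
      rw [hM.1 u _ hu, zero_mul]
    · rw [hN.1 x s hx, mul_zero]
  · rw [hN.2.1 x s, mul_zero]
  · rw [hM.2.1 i x, zero_mul]
  · rw [hM.2.2 u x, zero_mul]
  · rw [hN.2.2 x j, mul_zero]

theorem mono_P (i : Fin D.rank) : Mono (C.w i) ((C.P K i : GL D.Idx K) : Matrix D.Idx D.Idx K) := by
  rw [C.P_val]
  refine ⟨fun u s hu => ?_, fun j s => ?_, fun u j => ?_⟩ <;> simp [Pm]
  exact fun e => absurd e hu

theorem mono_diag (d : Rt D → Kˣ) : Mono id ((Core.diag K d : GL D.Idx K) : Matrix D.Idx D.Idx K) := by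
  refine ⟨fun u s hu => ?_, fun j s => ?_, fun u j => ?_⟩ <;>
    simp [Core.diag, Matrix.diagonal_apply]
  exact fun e => absurd e hu

theorem raise_mono {σ : Rt D → Rt D} {M : Matrix D.Idx D.Idx K} {δ : ℤ} (hδ : 0 ≤ δ)
    (h1 : Raise C δ M) (h2 : Mono σ M) : M = 1 := by
  ext a b
  rcases eq_or_ne a b with rfl | hab
  · rw [(h1 a a).1 rfl, Matrix.one_apply_eq]
  rw [Matrix.one_apply_ne hab]
  rcases a with a | a <;> rcases b with b | b
  · by_contra hne
    have := (h1 _ _).2 hab hne
    simp [Core.wt] at this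
    omega
  · exact h2.2.1 a b
  · exact h2.2.2 a b
  · refine h2.1 a b fun e => hab ?_
    have hbb : σ b = b := by
      by_contra hne
      have := h2.1 b b (Ne.symm hne)
      rw [(h1 _ _).1 rfl] at this
      exact one_ne_zero this
    rw [e, hbb]

end

section

variable {C : Core D} {T : Tree C} (cert : Cert.{u} C T) (hs : SuppOne C)
include cert

theorem edge_all (i : Fin D.rank) (r : Rt D) : Edge C cert.hyp T K i r := cert.edges K i r

theorem path_all (ws : List (Fin D.rank)) (r : Rt D) :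
    cj (nv C ws) (Xs C cert.hyp T K r) = Xs C cert.hyp T K (act C ws r) :=
  path_cj C cert.hyp T fun _ i b _ => cert.edges K i (act C b r)

theorem Y_conj {r s : Rt D} (hne : s ≠ r) (hne' : s ≠ r.rev) (a b : K) :
    Y C T r a * Y C T s b * (Y C T r a)⁻¹ = Y C T s b * evalT (Y C T) (-a) b (terms r s) := by
  rw [← cert.comm K hne hne' (-a) b, ← Y_inv C cert.hyp T r a]
  group

theorem terms_ht {r s : Rt D} (hrs : s ≠ r) (hne : s ≠ r.rev) (hr : Pos C r) (hp : Pos C s) {e : Term D}
    (he : e ∈ terms r s) : ht C r < ht C e.1 ∧ ht C s < ht C e.1 := by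
  obtain ⟨h1, h2, h3⟩ := terms_weight cert.hyp.ok hrs hne he
  rw [Pos, ht] at hr hp
  simp only [ht, h3, C.phi_add, C.phi_smul]
  constructor <;> nlinarith [show (1 : ℤ) ≤ (e.2.2.1 : ℤ) by exact_mod_cast h1,
    show (1 : ℤ) ≤ (e.2.2.2 : ℤ) by exact_mod_cast h2]

theorem Ufrom_norm {r : Rt D} (hr : Pos C r) {k : ℕ} (hk : r.val < k) (a : K) {g : CTW D K}
    (hg : g ∈ Ufrom C T K k) : Y C T r a * g * (Y C T r a)⁻¹ ∈ Ufrom C T K k := by
  induction hg using Subgroup.closure_induction with
  | mem x hx =>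
    obtain ⟨s, b, hp, hks, rfl⟩ := hx
    have h1 : s ≠ r := fun e => by subst e; omega
    have h2 : s ≠ r.rev := fun e => by rw [Pos] at hr hp; rw [e, ht_rev C] at hp; omega
    rw [Y_conj cert h1 h2]
    refine mul_mem (Subgroup.subset_closure ⟨s, b, hp, hks, rfl⟩) (evalT_mem _ _ _ _ fun e he c => ?_)
    have := terms_ht cert h1 h2 hr hp he
    exact Subgroup.subset_closure ⟨e.1, c, by rw [Pos] at hp ⊢; omega,
      le_trans hks (lt_of_ht C this.2).le, rfl⟩
  | one => simp
  | mul x y _ _ hx hy => convert mul_mem hx hy using 1; group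
  | inv x _ hx => convert inv_mem hx using 1; group

theorem Ufrom_cons (k : ℕ) {g : CTW D K} (hg : g ∈ Ufrom C T K k) :
    g ∈ Ufrom C T K (k + 1) ∨ ∃ r : Rt D, r.val = k ∧ Pos C r ∧
      ∃ s : K, ∃ b ∈ Ufrom C T K (k + 1), g = Y C T r s * b := by
  by_cases hex : ∃ r : Rt D, r.val = k ∧ Pos C r
  · obtain ⟨r, hk, hr⟩ := hex
    refine Or.inr ⟨r, hk, hr, ?_⟩
    have hn : ∀ (s : K) {x : CTW D K}, x ∈ Ufrom C T K (k + 1) →
        Y C T r s * x * (Y C T r s)⁻¹ ∈ Ufrom C T K (k + 1) :=
      fun s _ hx => Ufrom_norm cert hr (by omega) s hx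
    induction hg using Subgroup.closure_induction with
    | mem x hx =>
      obtain ⟨s, t, hp, hks, rfl⟩ := hx
      rcases eq_or_lt_of_le hks with e | e
      · have : s = r := Fin.ext (by omega)
        subst this
        exact ⟨t, 1, one_mem _, (mul_one _).symm⟩
      · exact ⟨0, _, Subgroup.subset_closure ⟨s, t, hp, e, rfl⟩, by rw [Y_zero C cert.hyp T, one_mul]⟩
    | one => exact ⟨0, 1, one_mem _, by rw [Y_zero C cert.hyp T, one_mul]⟩
    | mul x y _ _ hx hy =>
      obtain ⟨s, b, hb, rfl⟩ := hx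
      obtain ⟨s', b', hb', rfl⟩ := hy
      refine ⟨s + s', (Y C T r (-s') * b * (Y C T r (-s'))⁻¹) * b', mul_mem (hn _ hb) hb', ?_⟩
      rw [← Y_add C cert.hyp T r s s', ← Y_inv C cert.hyp T r s']
      group
    | inv x _ hx =>
      obtain ⟨s, b, hb, rfl⟩ := hx
      refine ⟨-s, Y C T r s * b⁻¹ * (Y C T r s)⁻¹, hn _ (inv_mem hb), ?_⟩
      rw [← Y_inv C cert.hyp T r s]
      group
  · left
    refine Subgroup.closure_mono ?_ hg
    rintro x ⟨r, t, hp, hk, rfl⟩
    exact ⟨r, t, hp, lt_of_le_of_ne hk fun e => hex ⟨r, e.symm, hp⟩, rfl⟩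

theorem Ufrom_raise {k : ℕ} {δ : ℤ} (hδ : 0 ≤ δ) (H : ∀ r : Rt D, Pos C r → k ≤ r.val → δ < ht C r)
    {g : CTW D K} (hg : g ∈ Ufrom C T K k) :
    Raise C δ ((theta C cert.hyp g : GL D.Idx K) : Matrix D.Idx D.Idx K) ∧
      Raise C δ (((theta C cert.hyp g)⁻¹ : GL D.Idx K) : Matrix D.Idx D.Idx K) := by
  induction hg using Subgroup.closure_induction with
  | mem x hx =>
    obtain ⟨r, t, hp, hk, rfl⟩ := hx
    rw [theta_Y C cert.hyp T, C.X_inv]
    exact ⟨raise_X C hδ (H r hp hk) t, raise_X C hδ (H r hp hk) (-t)⟩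
  | one =>
    have : Raise C δ (1 : Matrix D.Idx D.Idx K) :=
      fun a b => ⟨fun e => by rw [e, Matrix.one_apply_eq], fun hab hne => by simp [hab] at hne⟩
    simp [this]
  | mul x y _ _ hx hy =>
    rw [map_mul, mul_inv_rev, Units.val_mul, Units.val_mul]
    exact ⟨raise_mul C hδ hx.1 hy.1, raise_mul C hδ hy.2 hx.2⟩
  | inv x _ hx =>
    rw [map_inv, inv_inv]
    exact ⟨hx.2, hx.1⟩

theorem raise_mul_low {δ : ℤ} (hδ : 0 ≤ δ) {M N : Matrix D.Idx D.Idx K} (hM : Raise C 0 M)
    (hN : Raise C δ N) {a b : D.Idx} (hd : ChevStructure.phi (C.wt a) - ChevStructure.phi (C.wt b) ≤ δ) :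
    (M * N) a b = M a b := by
  rw [Matrix.mul_apply, Finset.sum_eq_single b]
  · rw [(hN b b).1 rfl, mul_one]
  · intro x _ hx
    by_contra hne
    have h2 := (hN x b).2 hx (right_ne_zero_of_mul hne)
    rcases eq_or_ne a x with rfl | h1
    · omega
    · have h1' := (hM a x).2 h1 (left_ne_zero_of_mul hne)
      omega
  · simp

theorem Ufrom_blocks (d : ℕ) : ∀ k, D.nroots ≤ k + d → ∀ {g : CTW D K}, g ∈ Ufrom C T K k →
    (∀ u j, ((theta C cert.hyp g : GL D.Idx K) : Matrix D.Idx D.Idx K) (Sum.inr u) (Sum.inl j) = 0) →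
    (∀ j u, ((theta C cert.hyp g : GL D.Idx K) : Matrix D.Idx D.Idx K) (Sum.inl j) (Sum.inr u) = 0) →
    g = 1 := by
  induction d with
  | zero =>
    intro k hk g hg _ _
    have : Ufrom C T K k = ⊥ := by
      rw [Ufrom, Subgroup.closure_eq_bot_iff]
      rintro x ⟨r, t, -, hr, rfl⟩
      have := r.isLt
      omega
    simpa [this] using hg
  | succ d ih =>
    intro k hk g hg hb1 hb2
    rcases Ufrom_cons cert k hg with hg' | ⟨r, rfl, hr, s, b, hb, rfl⟩
    · exact ih (k + 1) (by omega) hg' hb1 hb2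
    have hR := (Ufrom_raise cert (δ := ht C r) (le_of_lt hr) (fun q _ hq => ht_lt C (by omega)) hb).1
    have h0 : Raise C 0 (xI D K r s) := raise_X C le_rfl hr s
    have hz : ChevStructure.phi (0 : Fin D.rank → ℤ) = 0 := by simp [ChevStructure.phi]
    rw [map_mul, theta_Y C cert.hyp T] at hb1 hb2
    have hs0 : s = 0 := by
      refine coeff_zero C cert.hyp r (fun j => ?_) (fun j => ?_)
      · have := hb1 r j
        rw [Units.val_mul, Core.X_val, raise_mul_low cert (le_of_lt hr) h0 hR] at this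
        · exact this
        · simp [Core.wt, hz, ht]
      · have := hb2 j r.rev
        rw [Units.val_mul, Core.X_val, raise_mul_low cert (le_of_lt hr) h0 hR] at this
        · exact this
        · simp [Core.wt, hz, C.v_rev, C.phi_neg, ht]
    subst hs0
    simp only [C.X_zero, one_mul] at hb1 hb2
    rw [Y_zero C cert.hyp T, one_mul]
    exact ih (r.val + 1) (by omega) hb hb1 hb2

theorem Ufrom_inj {g : CTW D K} (hg : g ∈ Ufrom C T K 0) (hθ : theta C cert.hyp g = 1) : g = 1 :=
  Ufrom_blocks cert D.nroots 0 (by omega) hg (fun u j => by simp [hθ]) (fun j u => by simp [hθ])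

/-- The elements u h. -/
def Bel (C : Core D) (T : Tree C) (K : Type*) [Field K] : Set (CTW D K) :=
  {g | ∃ u ∈ Ufrom C T K 0, ∃ h ∈ Hs C K, g = u * h}

theorem H_norm_U {h : CTW D K} (hh : h ∈ Hs C K) {g : CTW D K}
    (hg : g ∈ Ufrom C T K 0) : h * g * h⁻¹ ∈ Ufrom C T K 0 := by
  induction hg using Subgroup.closure_induction with
  | mem x hx =>
    obtain ⟨r, t, hp, -, rfl⟩ := hx
    have : h * Y C T r t * h⁻¹ ∈ Xs C cert.hyp T K r := by
      rw [← cj_Hs C cert.hyp T cert.base r hh]
      exact ⟨_, ⟨t, rfl⟩, rfl⟩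
    obtain ⟨t', e⟩ := (mem_Xs C cert.hyp T).1 this
    exact Subgroup.subset_closure ⟨r, t', hp, Nat.zero_le _, e⟩
  | one => simp
  | mul x y _ _ hx hy => convert mul_mem hx hy using 1; group
  | inv x _ hx => convert inv_mem hx using 1; group

theorem Bel_mul {a b : CTW D K} (ha : a ∈ Bel C T K) (hb : b ∈ Bel C T K) :
    a * b ∈ Bel C T K := by
  obtain ⟨u, hu, h, hh, rfl⟩ := ha
  obtain ⟨u', hu', h', hh', rfl⟩ := hb
  exact ⟨u * (h * u' * h⁻¹), mul_mem hu (H_norm_U cert hh hu'), h * h', mul_mem hh hh', by group⟩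

theorem Bel_U {g : CTW D K} (hg : g ∈ Ufrom C T K 0) : g ∈ Bel C T K :=
  ⟨g, hg, 1, one_mem _, (mul_one _).symm⟩

theorem Bel_H {g : CTW D K} (hg : g ∈ Hs C K) : g ∈ Bel C T K :=
  ⟨1, one_mem _, g, hg, (one_mul _).symm⟩

/-- The elements b n b'. -/
def Cells (C : Core D) (T : Tree C) (K : Type*) [Field K] : Set (CTW D K) :=
  {g | ∃ b ∈ Bel C T K, ∃ ws : List (Fin D.rank), ∃ b' ∈ Bel C T K, g = b * nv C ws * b'}

theorem Cells_left {a g : CTW D K} (ha : a ∈ Bel C T K) (hg : g ∈ Cells C T K) :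
    a * g ∈ Cells C T K := by
  obtain ⟨b, hb, ws, b', hb', rfl⟩ := hg
  exact ⟨a * b, Bel_mul cert ha hb, ws, b', hb', by group⟩

theorem Cells_right {a g : CTW D K} (ha : a ∈ Bel C T K) (hg : g ∈ Cells C T K) :
    g * a ∈ Cells C T K := by
  obtain ⟨b, hb, ws, b', hb', rfl⟩ := hg
  exact ⟨b, hb, ws, b' * a, Bel_mul cert hb' ha, by group⟩

theorem push_right (ws : List (Fin D.rank)) (q : Rt D) (t : K) :
    ∃ t' : K, Y C T (act C ws q) t * nv C ws = nv C ws * Y C T q t' := by
  have e := path_all (K := K) cert ws q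
  have : Y C T (act C ws q) t ∈ cj (nv C ws) (Xs C cert.hyp T K q) := by
    rw [e]; exact ⟨t, rfl⟩
  obtain ⟨x, hx, e'⟩ := this
  obtain ⟨t', rfl⟩ := (mem_Xs C cert.hyp T).1 hx
  refine ⟨t', ?_⟩
  rw [← e']
  simp [MulAut.conj_apply]

theorem Cells_neg (i : Fin D.rank) (c : K) (ws : List (Fin D.rank)) :
    Y C T (C.p i).rev c * nv C ws ∈ Cells C T K := by
  have h1 : (1 : CTW D K) ∈ Bel C T K := Bel_U cert (one_mem _)
  have hsurj : Function.Surjective (act C ws) :=
    Finite.injective_iff_surjective.1 fun _ _ e => act_inj C ws e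
  obtain ⟨q, hq⟩ := hsurj (C.p i).rev
  by_cases hc : c = 0
  · subst hc
    exact ⟨1, h1, ws, 1, h1, by rw [Y_zero C cert.hyp T]; group⟩
  rcases pos_or C q with hp | hp
  · obtain ⟨t', e⟩ := push_right cert ws q c
    rw [hq] at e
    exact ⟨1, h1, ws, _, Bel_U cert (Subgroup.subset_closure ⟨q, t', hp, Nat.zero_le _, rfl⟩),
      by rw [e, one_mul]⟩
  · have hq' : act C ws q.rev = C.p i := by rw [act_rev, hq, Fin.rev_rev]
    obtain ⟨t', e⟩ := push_right cert ws q.rev (c⁻¹)
    rw [hq'] at e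
    have hdec : Y C T (C.p i).rev c = Y C T (C.p i) c⁻¹ * nW C i (-c⁻¹) * Y C T (C.p i) c⁻¹ := by
      rw [Y_bas C cert.hyp T (bas_p C i), Y_bas C cert.hyp T (bas_p_rev C i)]
      simp only [nW, inv_neg, inv_inv, neg_neg, ← gen_inv C cert.hyp (bas_p C i)]
      group
    have hne : (-c⁻¹ : K) ≠ 0 := by simpa using hc
    have hnW : nW C i (-c⁻¹) = hh C i (-c⁻¹) * nn C i := by
      rw [hh, show nW C i (-1 : K) = (nn C i)⁻¹ by rw [nn, nW_inv C cert.hyp]]
      group
    rw [hdec, hnW]
    refine ⟨Y C T (C.p i) c⁻¹ * hh C i (-c⁻¹), ⟨_, Subgroup.subset_closure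
      ⟨C.p i, c⁻¹, pos_p C i, Nat.zero_le _, rfl⟩, _, hh_mem C cert.hyp i (Units.mk0 _ hne), rfl⟩,
      i :: ws, Y C T q.rev t', Bel_U cert (Subgroup.subset_closure ⟨q.rev, t', hp, Nat.zero_le _, rfl⟩), ?_⟩
    simp only [mul_assoc, e, nv]

theorem Uno_norm_p (i : Fin D.rank) (a : K) {g : CTW D K} (hg : g ∈ Uno C T K i) :
    Y C T (C.p i) a * g * (Y C T (C.p i) a)⁻¹ ∈ Uno C T K i := by
  induction hg using Subgroup.closure_induction with
  | mem x hx =>
    obtain ⟨s, b, hp, hne, rfl⟩ := hx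
    have h2 : s ≠ (C.p i).rev := fun e => by
      have h1 := pos_p C i
      rw [Pos] at h1 hp
      rw [e, ht_rev C] at hp
      omega
    rw [Y_conj cert hne h2]
    refine mul_mem (Subgroup.subset_closure ⟨s, b, hp, hne, rfl⟩) (evalT_mem _ _ _ _ fun e he c => ?_)
    have := terms_ht cert hne h2 (pos_p C i) hp he
    refine Subgroup.subset_closure ⟨e.1, c, ?_, fun ee => ?_, rfl⟩
    · rw [Pos] at hp ⊢; omega
    · rw [ee] at this; omega
  | one => simp
  | mul x y _ _ hx hy => convert mul_mem hx hy using 1; group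
  | inv x _ hx => convert inv_mem hx using 1; group

theorem U_split (i : Fin D.rank) {g : CTW D K} (hg : g ∈ Ufrom C T K 0) :
    ∃ u ∈ Uno C T K i, ∃ t : K, g = u * Y C T (C.p i) t := by
  induction hg using Subgroup.closure_induction with
  | mem x hx =>
    obtain ⟨r, t, hp, -, rfl⟩ := hx
    by_cases hr : r = C.p i
    · subst hr; exact ⟨1, one_mem _, t, (one_mul _).symm⟩
    · exact ⟨_, Subgroup.subset_closure ⟨r, t, hp, hr, rfl⟩, 0, by rw [Y_zero C cert.hyp T, mul_one]⟩
  | one => exact ⟨1, one_mem _, 0, by rw [Y_zero C cert.hyp T, mul_one]⟩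
  | mul x y _ _ hx hy =>
    obtain ⟨u, hu, t, rfl⟩ := hx
    obtain ⟨u', hu', t', rfl⟩ := hy
    refine ⟨u * (Y C T (C.p i) t * u' * (Y C T (C.p i) t)⁻¹), mul_mem hu (Uno_norm_p cert i t hu'), t + t', ?_⟩
    rw [← Y_add C cert.hyp T]
    group
  | inv x _ hx =>
    obtain ⟨u, hu, t, rfl⟩ := hx
    refine ⟨Y C T (C.p i) (-t) * u⁻¹ * (Y C T (C.p i) (-t))⁻¹, Uno_norm_p cert i _ (inv_mem hu), -t, ?_⟩
    rw [← Y_inv C cert.hyp T]
    group

include hs

theorem Uno_nn (i : Fin D.rank) {g : CTW D K} (hg : g ∈ Uno C T K i) :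
    nn C i * g * (nn C i)⁻¹ ∈ Ufrom C T K 0 := by
  induction hg using Subgroup.closure_induction with
  | mem x hx =>
    obtain ⟨r, t, hp, hne, rfl⟩ := hx
    rw [Edge.param C cert.hyp T (cert.edges K i r)]
    exact Subgroup.subset_closure ⟨_, _, (pos_w C hs hp hne).1, Nat.zero_le _, rfl⟩
  | one => simp
  | mul x y _ _ hx hy => convert mul_mem hx hy using 1; group
  | inv x _ hx => convert inv_mem hx using 1; group

theorem Cells_nn (i : Fin D.rank) {g : CTW D K} (hg : g ∈ Cells C T K) :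
    nn C i * g ∈ Cells C T K := by
  obtain ⟨b, ⟨u, hu, h, hh, rfl⟩, ws, b', hb', rfl⟩ := hg
  obtain ⟨u₀, hu₀, t, rfl⟩ := U_split cert i hu
  have hN := Hs_normal (K := K) C cert.hyp T cert.base i
  have h2 : nn C i * h * (nn C i)⁻¹ ∈ Hs C K := by
    have hsq := nW_one_sq (K := K) C cert.hyp i
    have := mul_mem (mul_mem hsq (hN h hh)) (inv_mem hsq)
    convert this using 1
    group
  set h' := nn C i * h * (nn C i)⁻¹
  have hx : h'⁻¹ * (nn C i * Y C T (C.p i) t * (nn C i)⁻¹) * h' ∈ Xs C cert.hyp T K (C.p i).rev := by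
    have e1 : nn C i * Y C T (C.p i) t * (nn C i)⁻¹ ∈ Xs C cert.hyp T K (C.p i).rev := by
      rw [Edge.param C cert.hyp T (cert.edges K i (C.p i)), C.w_p]
      exact ⟨_, rfl⟩
    rw [← cj_Hs C cert.hyp T cert.base (C.p i).rev (inv_mem h2)]
    exact ⟨_, e1, by simp [MulAut.conj_apply]⟩
  obtain ⟨c, hc⟩ := (mem_Xs C cert.hyp T).1 hx
  have e : nn C i * (u₀ * Y C T (C.p i) t * h * nv C ws * b') =
      ((nn C i * u₀ * (nn C i)⁻¹) * h') * (Y C T (C.p i).rev c * nv C (i :: ws)) * b' := by
    rw [← hc]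
    simp only [h', nv]
    group
  rw [e]
  exact Cells_right cert hb' (Cells_left cert ⟨_, Uno_nn cert hs i hu₀, h', h2, rfl⟩ (Cells_neg cert i c (i :: ws)))

theorem Cells_all (g : CTW D K) : g ∈ Cells C T K := by
  have h0 : (1 : CTW D K) ∈ Cells C T K :=
    ⟨1, Bel_U cert (one_mem _), [], 1, Bel_U cert (one_mem _), by simp [nv]⟩
  let S : Subgroup (CTW D K) :=
    { carrier := {a | (∀ g ∈ Cells C T K, a * g ∈ Cells C T K) ∧ ∀ g ∈ Cells C T K, a⁻¹ * g ∈ Cells C T K}
      one_mem' := ⟨fun g hg => by rwa [one_mul], fun g hg => by rwa [inv_one, one_mul]⟩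
      mul_mem' := fun {a b} ha hb => ⟨fun g hg => by rw [mul_assoc]; exact ha.1 _ (hb.1 g hg),
        fun g hg => by rw [mul_inv_rev, mul_assoc]; exact hb.2 _ (ha.2 g hg)⟩
      inv_mem' := fun {a} ha => ⟨ha.2, fun g hg => by rw [inv_inv]; exact ha.1 g hg⟩ }
  have hH : ∀ a ∈ Hs C K, a ∈ S := fun a ha =>
    ⟨fun g hg => Cells_left cert (Bel_H cert ha) hg, fun g hg => Cells_left cert (Bel_H cert (inv_mem ha)) hg⟩
  have hn : ∀ i, nn C i ∈ S := by
    intro i
    refine ⟨fun g hg => Cells_nn cert hs i hg, fun g hg => ?_⟩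
    have e : (nn C i : CTW D K)⁻¹ * g = (nn C i * nn C i)⁻¹ * (nn C i * g) := by group
    rw [e]
    exact Cells_left cert (Bel_H cert (inv_mem (nW_one_sq C cert.hyp i))) (Cells_nn cert hs i hg)
  have hp : ∀ i (t : K), Y C T (C.p i) t ∈ S := fun i t =>
    ⟨fun g hg => Cells_left cert (Bel_U cert (Subgroup.subset_closure ⟨_, t, pos_p C i, Nat.zero_le _, rfl⟩)) hg,
      fun g hg => Cells_left cert (Bel_U cert (inv_mem (Subgroup.subset_closure
        ⟨_, t, pos_p C i, Nat.zero_le _, rfl⟩))) hg⟩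
  have hY : ∀ (r : Rt D) (t : K), Y C T r t ∈ S := by
    refine C.ind (fun r => ∀ t, Y C T r t ∈ S) hp ?_
    intro i r ih t
    have e : Y C T (C.w i r) t = nn C i * Y C T r ((C.η i r : K) * t) * (nn C i)⁻¹ := by
      rw [Edge.param C cert.hyp T (cert.edges K i r), ← mul_assoc, ← Int.cast_mul, C.η_mul_self]
      simp
    rw [e]
    exact mul_mem (mul_mem (hn i) (ih _)) (inv_mem (hn i))
  have htop : g ∈ S := by
    have : (⊤ : Subgroup (CTW D K)) ≤ S := by
      rw [← PresentedGroup.closure_range_of (ctwRels D K), Subgroup.closure_le]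
      rintro _ ⟨⟨r, t⟩, rfl⟩
      rw [← gen_of]
      by_cases hr : Bas C r
      · rw [← Y_bas C cert.hyp T hr]; exact hY r t
      · rw [gen_not_bas C cert.hyp hr]; exact one_mem S
    exact this trivial
  simpa using htop.1 1 h0

theorem mono_Hs {x : CTW D K} (hx : x ∈ Hs C K) : ∃ d, theta C cert.hyp x = Core.diag K d := by
  induction hx using Subgroup.closure_induction with
  | mem y hy => obtain ⟨k, c, rfl⟩ := hy; exact ⟨_, theta_hh C cert.hyp k c⟩
  | one => exact ⟨1, by rw [map_one, C.diag_one]⟩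
  | mul y z _ _ hy hz =>
    obtain ⟨d, hd⟩ := hy
    obtain ⟨d', hd'⟩ := hz
    exact ⟨d * d', by rw [map_mul, hd, hd', C.diag_mul]⟩
  | inv y _ hy =>
    obtain ⟨d, hd⟩ := hy
    exact ⟨d⁻¹, by rw [map_inv, hd, C.diag_inv]⟩

theorem ker_normal_form {ws : List (Fin D.rank)} {u h : CTW D K} (hu : u ∈ Ufrom C T K 0) (hh : h ∈ Hs C K)
    (hconj : theta C cert.hyp (nv C ws * (u * h)) = 1) : u = 1 ∧ ∀ r, act C ws r = r := by
  have mono_nv : ∀ ws : List (Fin D.rank),
      Mono (act C ws) ((theta C cert.hyp (nv C ws) : GL D.Idx K) : Matrix D.Idx D.Idx K) := by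
    intro ws
    induction ws with
    | nil =>
      have := mono_diag (K := K) C 1
      rw [C.diag_one] at this
      rw [nv, map_one]
      exact this
    | cons i ws ih =>
      rw [nv, map_mul, theta_nn C cert.hyp, Units.val_mul]
      exact mono_mul C (mono_P C i) ih
  obtain ⟨d, hd⟩ := mono_Hs cert hs hh
  have huinv : (theta C cert.hyp u)⁻¹ = theta C cert.hyp h * theta C cert.hyp (nv C ws) := by
    rw [map_mul, map_mul, ← mul_assoc] at hconj
    have := eq_inv_of_mul_eq_one_left hconj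
    apply inv_injective
    rw [inv_inv, mul_inv_rev, ← this]
    group
  have hM : Mono (id ∘ act C ws) (((theta C cert.hyp u)⁻¹ : GL D.Idx K) : Matrix D.Idx D.Idx K) := by
    rw [huinv, hd, Units.val_mul]
    exact mono_mul C (mono_diag C d) (mono_nv ws)
  have hR := (Ufrom_raise cert (δ := 0) le_rfl (fun q hq _ => hq) hu).2
  have hu1 : theta C cert.hyp u = 1 := inv_eq_one.1 (Units.ext (raise_mono C le_rfl hR hM))
  have hu0 : u = 1 := Ufrom_inj cert hu hu1
  subst hu0
  rw [one_mul] at hconj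
  refine ⟨rfl, fun r => ?_⟩
  have hθ : theta C cert.hyp (nv C ws) * theta C cert.hyp h = 1 := by rw [← map_mul, hconj]
  have hXs : cj (nv C ws * h) (Xs C cert.hyp T K r) = Xs C cert.hyp T K (act C ws r) := by
    rw [cj_mul, cj_Hs C cert.hyp T cert.base r hh, path_all cert]
  have hmem : nv C ws * h * Y C T r 1 * (nv C ws * h)⁻¹ ∈ Xs C cert.hyp T K (act C ws r) := by
    rw [← hXs]; exact ⟨_, ⟨1, rfl⟩, rfl⟩
  obtain ⟨c, hc⟩ := (mem_Xs C cert.hyp T).1 hmem
  have e' := congrArg (theta C cert.hyp) hc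
  simp only [map_mul, map_inv, hθ, theta_Y C cert.hyp T, one_mul, inv_one, mul_one] at e'
  by_contra hne
  have he := congrArg (fun g : GL D.Idx K => (g : Matrix D.Idx D.Idx K) (Sum.inr r) (Sum.inr r.rev)) e'
  have hne' : r.rev ≠ (act C ws r).rev := fun e => hne (by simpa using (congrArg Fin.rev e).symm)
  refine one_ne_zero (coeff_zero C cert.hyp r (t := (1 : K)) (fun j => ?_) (fun j => ?_))
  · have he' := congrArg (fun g : GL D.Idx K => (g : Matrix D.Idx D.Idx K) (Sum.inr r) (Sum.inl j)) e'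
    simp only [Core.X_val] at he'
    rw [he']
    simp [xI, Finset.sum_range_succ, Ek, E, Ne.symm hne]
  · have he' := congrArg (fun g : GL D.Idx K => (g : Matrix D.Idx D.Idx K) (Sum.inl j) (Sum.inr r.rev)) e'
    simp only [Core.X_val] at he'
    rw [he']
    simp [xI, Finset.sum_range_succ, Ek, E, hne']

theorem theta_ker_central {g : CTW D K} (hg : theta C cert.hyp g = 1) :
    g ∈ Subgroup.center (CTW D K) := by
  obtain ⟨b, hb, ws, b', hb', rfl⟩ := Cells_all cert hs g
  obtain ⟨u, hu, h, hh, e⟩ := Bel_mul cert hb' hb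
  have hconj : theta C cert.hyp (nv C ws * (u * h)) = 1 := by
    rw [← e, show nv C ws * (b' * b) = b⁻¹ * (b * nv C ws * b') * b by group, map_mul, map_mul, map_inv, hg]
    group
  obtain ⟨hu0, hact⟩ := ker_normal_form cert hs hu hh hconj
  subst hu0
  rw [one_mul] at e hconj
  rw [Subgroup.mem_center_iff]
  have hcen : ∀ x : CTW D K, x * (nv C ws * h) = (nv C ws * h) * x := by
    intro x
    have : x ∈ Subgroup.centralizer {nv C ws * h} := by
      have htop : (⊤ : Subgroup (CTW D K)) ≤ Subgroup.centralizer {nv C ws * h} := by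
        rw [← PresentedGroup.closure_range_of (ctwRels D K), Subgroup.closure_le]
        rintro _ ⟨⟨r, t⟩, rfl⟩
        rw [SetLike.mem_coe, Subgroup.mem_centralizer_singleton_iff, ← gen_of]
        by_cases hr : Bas C r
        · rw [← Y_bas C cert.hyp T hr]
          have hXs : cj (nv C ws * h) (Xs C cert.hyp T K r) = Xs C cert.hyp T K r := by
            rw [cj_mul, cj_Hs C cert.hyp T cert.base r hh, path_all cert, hact]
          have := param_of_cj C cert.hyp T hXs (a := (1 : K)) (t := t) (by rw [hconj]; simp)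
          rw [one_mul] at this
          exact (mul_inv_eq_iff_eq_mul.1 this).symm
        · rw [gen_not_bas C cert.hyp hr, one_mul, mul_one]
      exact htop trivial
    exact Subgroup.mem_centralizer_singleton_iff.1 this
  intro x
  have hx := hcen (b⁻¹ * x * b)
  rw [← e] at hx
  calc x * (b * nv C ws * b') = b * ((b⁻¹ * x * b) * (nv C ws * (b' * b))) * b⁻¹ := by group
    _ = b * (nv C ws * (b' * b) * (b⁻¹ * x * b)) * b⁻¹ := by rw [hx]
    _ = b * nv C ws * b' * x := by group

theorem act_append' (a b : List (Fin D.rank)) (r : Rt D) : act C (a ++ b) r = act C a (act C b r) := by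
  induction a with
  | nil => rfl
  | cons i a ih => simp [act, ih]

theorem nv_append (a b : List (Fin D.rank)) : (nv C (a ++ b) : CTW D K) = nv C a * nv C b := by
  induction a with
  | nil => simp [nv]
  | cons i a ih => simp [nv, ih, mul_assoc]

theorem act_eq_of_nv {ws ws' : List (Fin D.rank)} {h : CTW D K} (hh : h ∈ Hs C K)
    (e : nv C ws = h * nv C ws') (r : Rt D) : act C ws r = act C ws' r := by
  have h1 := path_all (K := K) cert ws r
  rw [e, cj_mul, path_all cert, cj_Hs C cert.hyp T cert.base _ hh] at h1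
  have hmem : Y C T (act C ws' r) (1 : K) ∈ Xs C cert.hyp T K (act C ws r) := h1 ▸ ⟨1, rfl⟩
  obtain ⟨c, hc⟩ := (mem_Xs C cert.hyp T).1 hmem
  have e' := congrArg (theta C cert.hyp) hc
  rw [theta_Y C cert.hyp T, theta_Y C cert.hyp T] at e'
  by_contra hne
  set q := act C ws' r
  set q' := act C ws r
  have hne' : q.rev ≠ q'.rev := fun e => hne (by simpa using (congrArg Fin.rev e).symm)
  refine one_ne_zero (coeff_zero C cert.hyp q (t := (1 : K)) (fun j => ?_) (fun j => ?_))
  · have he' := congrArg (fun g : GL D.Idx K => (g : Matrix D.Idx D.Idx K) (Sum.inr q) (Sum.inl j)) e'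
    simp only [Core.X_val] at he'
    rw [he']
    simp [xI, Finset.sum_range_succ, Ek, E, Ne.symm hne]
  · have he' := congrArg (fun g : GL D.Idx K => (g : Matrix D.Idx D.Idx K) (Sum.inl j) (Sum.inr q.rev)) e'
    simp only [Core.X_val] at he'
    rw [he']
    simp [xI, Finset.sum_range_succ, Ek, E, hne']

theorem act_of_Hs {ws : List (Fin D.rank)} (hw : (nv C ws : CTW D K) ∈ Hs C K) (r : Rt D) :
    act C ws r = r :=
  act_eq_of_nv cert hs hw (show (nv C ws : CTW D K) = nv C ws * nv C [] by simp [nv]) r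

theorem flip_split : ∀ (L : List (Fin D.rank)) (r : Rt D), Pos C r → ¬ Pos C (act C L r) →
    ∃ A k v, L = A ++ k :: v ∧ act C v r = C.p k
  | [], r, hr, hn => absurd hr hn
  | i :: L, r, hr, hn => by
    by_cases hL : Pos C (act C L r)
    · refine ⟨[], i, L, rfl, ?_⟩
      by_contra hne
      exact hn (pos_w C hs hL hne).1
    · obtain ⟨A, k, v, rfl, e⟩ := flip_split L r hr hL
      exact ⟨i :: A, k, v, rfl, e⟩

theorem Hs_conj_nv (ws : List (Fin D.rank)) {g : CTW D K} (hg : g ∈ Hs C K) :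
    nv C ws * g * (nv C ws)⁻¹ ∈ Hs C K := by
  induction ws with
  | nil => simpa [nv] using hg
  | cons i ws ih =>
    have hsq := nW_one_sq (K := K) C cert.hyp i
    have := mul_mem (mul_mem hsq (Hs_normal C cert.hyp T cert.base i _ ih)) (inv_mem hsq)
    convert this using 1
    simp only [nv]
    group

theorem pathE_all : ∀ (v : List (Fin D.rank)) (r : Rt D), PathE (Edge C cert.hyp T K) C v r
  | [], _ => trivial
  | i :: v, r => ⟨cert.edges K i _, pathE_all v r⟩

theorem act_rev_cancel : ∀ (ws : List (Fin D.rank)) (r : Rt D), act C ws (act C ws.reverse r) = r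
  | [], _ => rfl
  | i :: l, r => by
    rw [List.reverse_cons, act_append' cert hs, act, act, act, act_rev_cancel l, C.w_w]

/-- A word keeping all fundamental roots positive lies in the diagonal subgroup. -/
theorem nv_mem_Hs (n : ℕ) : ∀ ws : List (Fin D.rank), ws.length ≤ n →
    (∀ a, Pos C (act C ws (C.p a))) → (nv C ws : CTW D K) ∈ Hs C K := by
  induction n with
  | zero =>
    intro ws hl _
    rw [List.length_eq_zero_iff.1 (by omega : ws.length = 0)]
    simp [nv]
  | succ n ih =>
    intro ws hl hpos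
    rcases List.eq_nil_or_concat ws with rfl | ⟨L, j, rfl⟩
    · simp [nv]
    rw [List.concat_eq_append] at hl hpos ⊢
    have hnp : ¬ Pos C (act C L (C.p j)) := by
      have := hpos j
      rw [act_append' cert hs, act, act, C.w_p, act_rev, Pos, ht_rev C] at this
      rw [Pos]
      omega
    obtain ⟨A, k, v, rfl, e⟩ := flip_split cert hs L (C.p j) (pos_p C j) hnp
    obtain ⟨g, hg, hc⟩ := nv_nn (K := K) C cert.hyp T cert.base v e (pathE_all cert hs v _) (pathE_all cert hs v _)
    set h' := nv C A * (nn C k * g * (nn C k)⁻¹ * (nn C k * nn C k)) * (nv C A)⁻¹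
    have hh' : h' ∈ Hs C K := by
      refine Hs_conj_nv cert hs A (mul_mem ?_ (nW_one_sq C cert.hyp k))
      simpa [nv] using Hs_conj_nv cert hs [k] hg
    have heq : nv C ((A ++ k :: v) ++ [j]) = h' * nv C (A ++ v) := by
      rw [nv_append cert hs, nv_append cert hs, nv_append cert hs, nv, nv, nv, mul_one,
        show nv C A * (nn C k * nv C v) * nn C j = nv C A * nn C k * (nv C v * nn C j) by group, hc]
      simp only [h']
      group
    rw [heq]
    refine mul_mem hh' (ih (A ++ v) (by simp at hl ⊢; omega) fun a => ?_)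
    rw [← act_eq_of_nv cert hs hh' heq]
    exact hpos a

theorem ker_mem_Hs {g : CTW D K} (hg : theta C cert.hyp g = 1) : g ∈ Hs C K := by
  have hcen := theta_ker_central cert hs hg
  obtain ⟨u, hu, h, hh, N, hN, e⟩ : ∃ u ∈ Ufrom C T K 0, ∃ h ∈ Hs C K, ∃ ws : List (Fin D.rank),
      True ∧ g = nv C ws * (u * h) := by
    obtain ⟨b, hb, ws, b', hb', rfl⟩ := Cells_all cert hs g
    obtain ⟨u, hu, h, hh, e⟩ := Bel_mul cert hb' hb
    refine ⟨u, hu, h, hh, ws, trivial, ?_⟩
    rw [← e]
    have := Subgroup.mem_center_iff.1 hcen b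
    calc b * nv C ws * b' = b⁻¹ * (b * (b * nv C ws * b')) := by group
      _ = b⁻¹ * ((b * nv C ws * b') * b) := by rw [this]
      _ = nv C ws * (b' * b) := by group
  subst e
  obtain ⟨hu1, hact⟩ := ker_normal_form cert hs hu hh hg
  subst hu1
  rw [one_mul]
  exact mul_mem (nv_mem_Hs cert hs N.length N le_rfl fun a => by rw [hact]; exact pos_p C a) hh

theorem theta_mem_group (g : CTW D K) : theta C cert.hyp g ∈ D.group K := by
  have : (⊤ : Subgroup (CTW D K)) ≤ (D.group K).comap (theta C cert.hyp) := by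
    rw [← PresentedGroup.closure_range_of (ctwRels D K), Subgroup.closure_le]
    rintro _ ⟨⟨r, t⟩, rfl⟩
    rw [← gen_of, SetLike.mem_coe, Subgroup.mem_comap]
    by_cases hr : Bas C r
    · rw [theta_gen C cert.hyp hr]
      refine Subgroup.subset_closure ⟨r, t, ?_⟩
      rw [C.X_val_x, ChevalleyDatum.x, dif_pos r.isLt]
    · rw [gen_not_bas C cert.hyp hr, map_one]; exact one_mem _
  exact this trivial

theorem exists_preimage {g : GL D.Idx K} (hg : g ∈ D.group K) : ∃ y, theta C cert.hyp y = g := by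
  have hle : D.group K ≤ (theta C cert.hyp).range := by
    unfold ChevalleyDatum.group
    rw [Subgroup.closure_le]
    rintro x ⟨r, t, hx⟩
    refine ⟨Y C T r t, ?_⟩
    rw [theta_Y C cert.hyp T]
    apply Units.ext
    rw [C.X_val_x, hx, ChevalleyDatum.x, dif_pos r.isLt]
  exact hle hg

/-- The centre of the Chevalley group is trivial. -/
theorem center_trivial {z : GL D.Idx K} (hz : z ∈ D.group K) (hc : ∀ x ∈ D.group K, x * z = z * x) :
    z = 1 := by
  have hX : ∀ (r : Rt D) (t : K), C.X K r t ∈ D.group K := fun r t =>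
    Subgroup.subset_closure ⟨r, t, by rw [C.X_val_x, ChevalleyDatum.x, dif_pos r.isLt]⟩
  obtain ⟨g, rfl⟩ := exists_preimage cert hs hz
  obtain ⟨b, hb, ws, b', hb', rfl⟩ := Cells_all cert hs g
  obtain ⟨u, hu, h, hh, e⟩ := Bel_mul cert hb' hb
  have hz' : theta C cert.hyp (b * nv C ws * b') = theta C cert.hyp (nv C ws * (u * h)) := by
    rw [← e]
    have h1 := hc _ (theta_mem_group cert hs b)
    have h2 : theta C cert.hyp (nv C ws * (b' * b)) =
        (theta C cert.hyp b)⁻¹ * (theta C cert.hyp (b * nv C ws * b') * theta C cert.hyp b) := by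
      simp only [map_mul]
      group
    rw [h2, ← h1, inv_mul_cancel_left]
  rw [hz'] at hc ⊢
  clear hz hz' e hb hb'
  -- the word does not change the set of positive roots
  have hinv : ∀ r, act C ws (act C ws.reverse r) = r := act_rev_cancel cert hs ws
  have hrev : (nv C ws.reverse : CTW D K) ∈ Hs C K := by
    refine nv_mem_Hs cert hs _ _ le_rfl fun a => ?_
    set q := act C ws.reverse (C.p a)
    have hmem : (u * h) * Y C T (C.p a) 1 * (u * h)⁻¹ ∈ Ufrom C T K 0 := by
      have h1 : h * Y C T (C.p a) 1 * h⁻¹ ∈ Ufrom C T K 0 :=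
        H_norm_U cert hh (Subgroup.subset_closure ⟨_, _, pos_p C a, Nat.zero_le _, rfl⟩)
      have := mul_mem (mul_mem hu h1) (inv_mem hu)
      convert this using 1
      group
    have hR := (Ufrom_raise cert (δ := 0) le_rfl (fun p hp _ => hp) hmem).1
    have hq : theta C cert.hyp ((u * h) * Y C T (C.p a) 1 * (u * h)⁻¹) = C.X K q (sgn C ws q : K) := by
      have hcomm := hc _ (hX (C.p a) 1)
      have h2 := P_conj_word C cert.hyp ws q (sgn C ws q : K)
      rw [hinv, ← Int.cast_mul, sgn_mul_self, Int.cast_one] at h2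
      rw [map_mul] at hcomm
      simp only [map_mul, map_inv, theta_Y C cert.hyp T, mul_inv_rev] at hcomm ⊢
      have h3 : theta C cert.hyp (nv C ws) * (theta C cert.hyp u * theta C cert.hyp h * C.X K (C.p a) 1 *
          ((theta C cert.hyp h)⁻¹ * (theta C cert.hyp u)⁻¹)) * (theta C cert.hyp (nv C ws))⁻¹ =
          C.X K (C.p a) 1 := by
        have h4 : C.X K (C.p a) 1 = (theta C cert.hyp (nv C ws) * (theta C cert.hyp u * theta C cert.hyp h)) *
            C.X K (C.p a) 1 * (theta C cert.hyp (nv C ws) * (theta C cert.hyp u * theta C cert.hyp h))⁻¹ := by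
          rw [← hcomm, mul_inv_cancel_right]
        conv_rhs => rw [h4]
        group
      exact mul_left_cancel (mul_right_cancel (h3.trans h2.symm))
    rw [hq] at hR
    rcases pos_or C q with hp | hp
    · exact hp
    exfalso
    rw [Pos, ht_rev C] at hp
    have hne : ((sgn C ws q : ℤ) : K) ≠ 0 := by
      intro e0
      have := sgn_mul_self C ws q
      have e1 := congrArg (Int.cast (R := K)) this
      rw [Int.cast_mul, e0, mul_zero, Int.cast_one] at e1
      exact zero_ne_one e1
    have := (hR (Sum.inr q) (Sum.inr q.rev)).2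
      (fun e => C.ne_rev q (Sum.inr.inj e).symm) (by
        simp [xI, Finset.sum_range_succ, Ek, E, C.ne_rev, (C.ne_rev q).symm, hne])
    simp only [Core.wt, C.v_rev, C.phi_neg, ← ht.eq_def] at this
    omega
  have hact : ∀ r, act C ws r = r := fun r => by
    have := hinv r
    rwa [act_of_Hs cert hs hrev] at this
  have hN : (nv C ws : CTW D K) ∈ Hs C K := nv_mem_Hs cert hs _ _ le_rfl fun a => by
    rw [hact]; exact pos_p C a
  -- so z lies in the Borel subgroup
  set u' := nv C ws * u * (nv C ws)⁻¹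
  set h' := nv C ws * h
  have hu' : u' ∈ Ufrom C T K 0 := H_norm_U cert hN hu
  have hh' : h' ∈ Hs C K := mul_mem hN hh
  rw [show nv C ws * (u * h) = u' * h' by simp only [u', h']; group] at hc ⊢
  clear_value u' h'
  clear hN hact hrev hinv hu hh
  obtain ⟨d, hd⟩ : ∃ d, theta C cert.hyp h' = Core.diag K d := mono_Hs cert hs hh'
  set z := ((theta C cert.hyp (u' * h') : GL D.Idx K) : Matrix D.Idx D.Idx K) with hzdef
  set M := ((theta C cert.hyp u' : GL D.Idx K) : Matrix D.Idx D.Idx K)
  have hR := (Ufrom_raise cert (δ := 0) le_rfl (fun q hq _ => hq) hu').1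
  have hzM1 : ∀ a j, z a (Sum.inl j) = M a (Sum.inl j) := fun a j => by
    simp [hzdef, M, map_mul, hd, Core.diag, Matrix.mul_diagonal]
  have hzM2 : ∀ j s, z (Sum.inl j) (Sum.inr s) = M (Sum.inl j) (Sum.inr s) * (d s : K) := fun j s => by
    simp [hzdef, M, map_mul, hd, Core.diag, Matrix.mul_diagonal]
  have hP : ∀ i, ((C.P K i : GL D.Idx K) : Matrix D.Idx D.Idx K) * z = z * (C.P K i : GL D.Idx K) := fun i => by
    rw [hzdef, ← Units.val_mul, ← Units.val_mul,
      hc (C.P K i) (mul_mem (mul_mem (hX _ _) (hX _ _)) (hX _ _))]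
  have hzero : ChevStructure.phi (0 : Fin D.rank → ℤ) = 0 := by simp [ChevStructure.phi]
  have hrow : ∀ r, ∀ j, z (Sum.inr r) (Sum.inl j) = 0 := by
    have base : ∀ r, ¬ Pos C r → ∀ j, z (Sum.inr r) (Sum.inl j) = 0 := by
      intro r hr j
      rw [hzM1]
      by_contra hne
      have := (hR _ _).2 Sum.inr_ne_inl hne
      simp only [Core.wt, hzero, sub_zero] at this
      exact hr this
    have step : ∀ i r, (∀ j, z (Sum.inr r) (Sum.inl j) = 0) → ∀ j, z (Sum.inr (C.w i r)) (Sum.inl j) = 0 := by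
      intro i r ih j
      have e1 := congrFun (congrFun (hP i) (Sum.inr (C.w i r))) (Sum.inl j)
      rw [Matrix.mul_apply, Matrix.mul_apply, Fintype.sum_sum_type, Fintype.sum_sum_type] at e1
      simp only [C.P_val, Pm, Matrix.map_apply, Matrix.of_apply, map_zero, zero_mul, Finset.sum_const_zero,
        zero_add, mul_zero, add_zero] at e1
      rw [Finset.sum_eq_single r (fun x _ hx => by
        rw [if_neg (fun e => hx (by simpa [C.w_w] using (congrArg (C.w i) e).symm)), map_zero, zero_mul])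
        (by simp), ih j, mul_zero] at e1
      -- the row at w r times the invertible block is zero
      have hrow0 : ∀ l, ∑ x, z (Sum.inr (C.w i r)) (Sum.inl x) *
          (((if x = l then 1 else 0) - (if x = i then A D l (C.p i) else 0) : ℤ) : K) = 0 := by
        intro l
        have e2 := congrFun (congrFun (hP i) (Sum.inr (C.w i r))) (Sum.inl l)
        rw [Matrix.mul_apply, Matrix.mul_apply, Fintype.sum_sum_type, Fintype.sum_sum_type] at e2
        simp only [C.P_val, Pm, Matrix.map_apply, Matrix.of_apply, map_zero, zero_mul, Finset.sum_const_zero,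
          zero_add, mul_zero, add_zero] at e2
        rw [Finset.sum_eq_single r (fun x _ hx => by
          rw [if_neg (fun e => hx (by simpa [C.w_w] using (congrArg (C.w i) e).symm)), map_zero, zero_mul])
          (by simp), ih l, mul_zero] at e2
        simpa using e2.symm
      have hl : ∀ l, z (Sum.inr (C.w i r)) (Sum.inl l) =
          z (Sum.inr (C.w i r)) (Sum.inl i) * (A D l (C.p i) : K) := by
        intro l
        have := hrow0 l
        simp only [Int.cast_sub, Int.cast_ite, Int.cast_one, Int.cast_zero, mul_sub, mul_ite, mul_one, mul_zero,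
          Finset.sum_sub_distrib, Finset.sum_ite_eq', Finset.mem_univ, ↓reduceIte, sub_eq_zero] at this
        exact this
      have hi := hl i
      rw [C.A_p, Int.cast_ofNat, mul_two] at hi
      have : z (Sum.inr (C.w i r)) (Sum.inl i) = 0 := by linear_combination -hi
      rw [hl j, this, zero_mul]
    refine C.ind (fun r => ∀ j, z (Sum.inr r) (Sum.inl j) = 0) ?_ step
    intro i
    have h1 : ¬ Pos C (C.p i).rev := by
      have := pos_p C i
      rw [Pos] at this ⊢
      rw [ht_rev C]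
      omega
    have := step i _ (base _ h1)
    rwa [C.w_rev, C.w_p, Fin.rev_rev] at this
  have hcol : ∀ r, ∀ j, z (Sum.inl j) (Sum.inr r) = 0 := by
    refine C.ind (fun r => ∀ j, z (Sum.inl j) (Sum.inr r) = 0) (fun i j => ?_) ?_
    · rw [hzM2]
      by_contra hne
      have := (hR _ _).2 Sum.inl_ne_inr (left_ne_zero_of_mul hne)
      have h1 := pos_p C i
      simp only [Core.wt, hzero, zero_sub] at this
      rw [Pos, ht] at h1
      omega
    · intro i r ih j
      have e1 := congrFun (congrFun (hP i) (Sum.inl j)) (Sum.inr r)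
      rw [Matrix.mul_apply, Matrix.mul_apply, Fintype.sum_sum_type, Fintype.sum_sum_type] at e1
      simp only [C.P_val, Pm, Matrix.map_apply, Matrix.of_apply, map_zero, zero_mul, Finset.sum_const_zero,
        zero_add, mul_zero, add_zero] at e1
      rw [Finset.sum_eq_zero (fun x _ => by rw [ih x, mul_zero]), Finset.sum_eq_single (C.w i r) (fun x _ hx => by
        rw [if_neg hx, map_zero, mul_zero]) (by simp)] at e1
      rw [if_pos rfl] at e1
      rcases C.η_one i r with e | e <;> simpa [e] using e1.symm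
  have hu1 : u' = 1 := Ufrom_blocks cert D.nroots 0 (by omega) hu' (fun r j => (hzM1 _ j).symm.trans (hrow r j))
    (fun j r => (mul_eq_zero.1 ((hzM2 j r).symm.trans (hcol r j))).resolve_right (d r).ne_zero)
  subst hu1
  rw [one_mul, hd] at hc ⊢
  rw [← C.diag_one]
  congr 1
  funext r
  have e1 := congrArg (fun g : GL D.Idx K => (g : Matrix D.Idx D.Idx K)) (hc _ (hX r 1))
  simp only [Units.val_mul, Core.X_val, Core.diag] at e1
  have hd2 : d r = d r.rev := by
    have := congrFun (congrFun e1 (Sum.inr r)) (Sum.inr r.rev)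
    simp [Matrix.mul_diagonal, Matrix.diagonal_mul, xI, Finset.sum_range_succ, Ek, E, C.ne_rev,
      (C.ne_rev r).symm] at this
    exact Units.ext this.symm
  rcases cert.hyp.unit r with ⟨k, hk⟩ | ⟨j, hj⟩
  · have := congrFun (congrFun e1 (Sum.inr r)) (Sum.inl k)
    simp [Matrix.mul_diagonal, Matrix.diagonal_mul, xI, Finset.sum_range_succ, Ek, E] at this
    exact Units.ext (by rcases hk with hk | hk <;> simpa [hk] using this.symm)
  · have := congrFun (congrFun e1 (Sum.inl j)) (Sum.inr r.rev)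
    simp [Matrix.mul_diagonal, Matrix.diagonal_mul, xI, Finset.sum_range_succ, Ek, E] at this
    exact hd2.trans (Units.ext (by rcases hj with hj | hj <;> simpa [hj] using this))

end

end Cfsg.Agent.Lib.CurtisTits
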