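import Cfsg.Agent.Lib.CurtisTits.Theta

/-!
The action of n̄ and of h̄ on root subgroups inside one subsystem of rank two, and the subgroup
generated by the h̄ of the fundamental roots.
-/

set_option autoImplicit false
set_option linter.unusedSectionVars false

namespace Cfsg.Agent.Lib.CurtisTits

open Cfsg.Lie
open Cfsg.Agent.Lib.ChevStructure
open scoped MatrixGroups Matrix

variable {D : ChevalleyDatum} {K : Type*} [Field K]

/-- A linear functional on two coordinates. -/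
def lf (i j : Fin D.rank) (ci cj : ℤ) (x : Fin D.rank → ℤ) : ℤ := ci * x i + cj * x j

/-- An ordered list in which the terms of two members come later. -/
def GoodL (C : Core D) (i j : Fin D.rank) (ci cj : ℤ) : List (Rt D) → Prop
  | [] => True
  | a :: T => (0 < lf i j ci cj (C.v a) ∧ ∀ y ∈ T, y ≠ a ∧ y ≠ a.rev ∧
      lf i j ci cj (C.v a) ≤ lf i j ci cj (C.v y) ∧ ∀ e ∈ terms a y, e.1 ∈ T) ∧ GoodL C i j ci cj T

/-- A list through r which is normalised by the rank one subgroup of p_i, inside one subsystem. -/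
def LocL (C : Core D) (i : Fin D.rank) (r : Rt D) : Prop :=
  ∃ (j : Fin D.rank) (ci cj : ℤ) (L : List (Rt D)), r ∈ L ∧ C.w i r ∈ L ∧ GoodL C i j ci cj L ∧ ∀ u ∈ L,
    InS C i j u ∧ u ≠ C.p i ∧ u ≠ (C.p i).rev ∧ (∀ e ∈ terms (C.p i) u, e.1 ∈ L) ∧
      (∀ e ∈ terms (C.p i).rev u, e.1 ∈ L)

/-- A root occurring with coefficient ±1, linearly in one of the parameters, in the commutator of two roots
to which `LocL` applies, the other terms being of the same kind; the images of all the terms lie in one list. -/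
def LocC (C : Core D) (i : Fin D.rank) (r : Rt D) : Prop :=
  ∃ (j : Fin D.rank) (β γ : Rt D) (pre post : List (Term D)) (c : ℤ) (a b : ℕ),
    LocL C i β ∧ LocL C i γ ∧ InS C i j r ∧ InS C i j β ∧ InS C i j γ ∧
    γ ≠ β ∧ γ ≠ β.rev ∧ terms β γ = pre ++ (r, c, a, b) :: post ∧ (c = 1 ∨ c = -1) ∧ (a = 1 ∨ b = 1) ∧
    (∀ e ∈ pre ++ post, LocL C i e.1) ∧
    ∃ (ci cj : ℤ) (L : List (Rt D)), GoodL C i j ci cj L ∧ (∀ u ∈ L, InS C i j u) ∧ C.w i r ∈ L ∧
      (∀ e ∈ pre ++ post, C.w i e.1 ∈ L) ∧ ∀ e ∈ terms (C.w i β) (C.w i γ), e.1 ∈ L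

/-- Either of the two local criteria. -/
def Loc (C : Core D) (i : Fin D.rank) (r : Rt D) : Prop := LocL C i r ∨ LocC C i r

/-- A root reached from a fundamental root or its negative by local steps. -/
inductive Red (C : Core D) : Rt D → Prop
  | simple {r : Rt D} (a : Fin D.rank) : r = C.p a ∨ r = (C.p a).rev → Red C r
  | step {r : Rt D} (a : Fin D.rank) : Loc C a (C.w a r) → Red C (C.w a r) → Red C r

/-- The local hypotheses. -/
structure Base (C : Core D) : Prop where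
  loc : ∀ k a, (Loc C k (C.p a) ∧ Loc C k (C.w k (C.p a))) ∧
    (Loc C k (C.p a).rev ∧ Loc C k (C.w k (C.p a).rev))
  red : ∀ r, Bas C r → Red C r

/-- The subgroup generated by the root elements of a list. -/
def SL (K : Type*) [Field K] (L : List (Rt D)) : Subgroup (CTW D K) :=
  Subgroup.closure {g | ∃ u ∈ L, ∃ t : K, g = gen u t}

theorem gen_mem_SL {L : List (Rt D)} {u : Rt D} (hu : u ∈ L) (t : K) : gen u t ∈ SL K L :=
  Subgroup.subset_closure ⟨u, hu, t, rfl⟩

theorem evalT_mem {G : Type*} [Group G] (S : Subgroup G) {R : Type*} [CommRing R] (f : Rt D → R → G)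
    (t u : R) {L : List (Term D)} (H : ∀ e ∈ L, ∀ c, f e.1 c ∈ S) : evalT f t u L ∈ S := by
  refine S.list_prod_mem fun x hx => ?_
  obtain ⟨e, he, rfl⟩ := List.mem_map.1 hx
  exact H e he _

/-- The weights of the members of a list generate a monoid; matrices moving weights only within it. -/
def InvS (C : Core D) {R : Type*} [CommRing R] (L : List (Rt D)) (M : Matrix D.Idx D.Idx R) : Prop :=
  ∀ a b, M a b ≠ 0 → C.wt a - C.wt b ∈ AddSubmonoid.closure {x | ∃ u ∈ L, x = C.v u}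

section

variable (C : Core D) (h : Hyp C)
include C h

theorem gen_conj {i j : Fin D.rank} {a y : Rt D} (ha : InS C i j a) (hy : InS C i j y) (h1 : y ≠ a)
    (h2 : y ≠ a.rev) (s b : K) :
    gen a s * gen y b * (gen a s)⁻¹ = gen y b * evalT gen (-s) b (terms a y) := by
  have e := gen_comm C h ha hy h1 h2 (-s) b
  rw [← gen_inv C h (bas_of C ha) s, inv_inv] at e
  rw [← e]
  group

theorem SL_conj {i j : Fin D.rank} {a : Rt D} (ha : InS C i j a) {L : List (Rt D)}
    (hL : ∀ y ∈ L, InS C i j y ∧ y ≠ a ∧ y ≠ a.rev ∧ ∀ e ∈ terms a y, e.1 ∈ L) (s : K)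
    {g : CTW D K} (hg : g ∈ SL K L) : gen a s * g * (gen a s)⁻¹ ∈ SL K L := by
  induction hg using Subgroup.closure_induction with
  | mem x hx =>
    obtain ⟨y, hy, b, rfl⟩ := hx
    obtain ⟨h0, h1, h2, h3⟩ := hL y hy
    rw [gen_conj C h ha h0 h1 h2]
    exact mul_mem (gen_mem_SL hy b) (evalT_mem _ _ _ _ fun e he c => gen_mem_SL (h3 e he) c)
  | one => simp
  | mul x y _ _ hx hy =>
    have := mul_mem hx hy
    convert this using 1
    group
  | inv x _ hx =>
    have := inv_mem hx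
    convert this using 1
    group

theorem SL_cons {i j i' j' : Fin D.rank} {ci cj : ℤ} {a : Rt D} {L : List (Rt D)}
    (hall : ∀ y ∈ a :: L, InS C i j y) (hg : GoodL C i' j' ci cj (a :: L)) {g : CTW D K} (hmem : g ∈ SL K (a :: L)) :
    ∃ s : K, ∃ b ∈ SL K L, g = gen a s * b := by
  have ha := hall a List.mem_cons_self
  have hc : ∀ (s : K) {x : CTW D K}, x ∈ SL K L → gen a s * x * (gen a s)⁻¹ ∈ SL K L :=
    fun s _ hx => SL_conj C h ha (fun y hy => ⟨hall y (List.mem_cons_of_mem _ hy), (hg.1.2 y hy).1,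
      (hg.1.2 y hy).2.1, (hg.1.2 y hy).2.2.2⟩) s hx
  induction hmem using Subgroup.closure_induction with
  | mem x hx =>
    obtain ⟨y, hy, t, rfl⟩ := hx
    rcases List.mem_cons.1 hy with rfl | hy
    · exact ⟨t, 1, one_mem _, (mul_one _).symm⟩
    · exact ⟨0, _, gen_mem_SL hy t, by rw [gen_zero C h (bas_of C ha), one_mul]⟩
  | one => exact ⟨0, 1, one_mem _, by rw [gen_zero C h (bas_of C ha), one_mul]⟩
  | mul x y _ _ hx hy =>
    obtain ⟨s, b, hb, rfl⟩ := hx
    obtain ⟨s', b', hb', rfl⟩ := hy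
    refine ⟨s + s', ((gen a (-s')) * b * (gen a (-s'))⁻¹) * b', mul_mem (hc _ hb) hb', ?_⟩
    rw [← gen_add C h (bas_of C ha) s s', ← gen_inv C h (bas_of C ha) s']
    group
  | inv x _ hx =>
    obtain ⟨s, b, hb, rfl⟩ := hx
    refine ⟨-s, gen a s * b⁻¹ * (gen a s)⁻¹, hc _ (inv_mem hb), ?_⟩
    rw [← gen_inv C h (bas_of C ha) s]
    group

theorem invS_X {L : List (Rt D)} {u : Rt D} (hu : u ∈ L) (t : K) : InvS C L (xI D K u t) := by
  intro a b hne
  by_contra hn
  have hz : ∀ k, E D k u a b = 0 := by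
    intro k
    by_contra e
    refine hn ?_
    rw [C.E_weight k u a b e, add_sub_cancel_left, natCast_zsmul]
    exact AddSubmonoid.nsmul_mem _ (AddSubmonoid.subset_closure (s := {x | ∃ y ∈ L, x = C.v y}) ⟨u, hu, rfl⟩) k
  refine hne ?_
  simp only [xI, Matrix.sum_apply, Matrix.smul_apply, Ek, Matrix.map_apply, hz, map_zero, smul_zero,
    Finset.sum_const_zero]

theorem invS_mul {L : List (Rt D)} {M N : Matrix D.Idx D.Idx K} (hM : InvS C L M) (hN : InvS C L N) :
    InvS C L (M * N) := by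
  intro a b hne
  rw [Matrix.mul_apply] at hne
  obtain ⟨x, -, hx⟩ := Finset.exists_ne_zero_of_sum_ne_zero hne
  have := add_mem (hM a x (left_ne_zero_of_mul hx)) (hN x b (right_ne_zero_of_mul hx))
  rwa [sub_add_sub_cancel] at this

theorem goodL_head {i j : Fin D.rank} {ci cj : ℤ} {a : Rt D} {T : List (Rt D)}
    (hg : GoodL C i j ci cj (a :: T)) : C.v a ∉ AddSubmonoid.closure {x | ∃ u ∈ T, x = C.v u} := by
  obtain ⟨⟨hpos, hT⟩, -⟩ := hg
  set f := lf i j ci cj with hf
  have fadd : ∀ x y, f (x + y) = f x + f y := fun x y => by simp only [hf, lf, Pi.add_apply]; ring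
  intro hmem
  have key : ∀ x ∈ AddSubmonoid.closure {x | ∃ u ∈ T, x = C.v u},
      x = 0 ∨ ((∃ u ∈ T, x = C.v u) ∧ f (C.v a) ≤ f x) ∨ f (C.v a) < f x := by
    intro x hx
    induction hx using AddSubmonoid.closure_induction with
    | mem y hy =>
      obtain ⟨u, hu, rfl⟩ := hy
      exact Or.inr (Or.inl ⟨⟨u, hu, rfl⟩, (hT u hu).2.2.1⟩)
    | zero => exact Or.inl rfl
    | add y z _ _ hy hz =>
      rcases hy with rfl | hy
      · simpa using hz
      rcases hz with rfl | hz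
      · simpa using Or.inr hy
      refine Or.inr (Or.inr ?_)
      rw [fadd]
      have h1 : f (C.v a) ≤ f y := hy.elim (fun e => e.2) le_of_lt
      have h2 : f (C.v a) ≤ f z := hz.elim (fun e => e.2) le_of_lt
      omega
  rcases key _ hmem with e | ⟨⟨u, hu, e⟩, -⟩ | e
  · rw [e] at hpos; simp [hf, lf] at hpos
  · exact (hT u hu).1 (C.v_inj e).symm
  · omega

theorem SL_inj {i j i' j' : Fin D.rank} {ci cj : ℤ} : ∀ {L : List (Rt D)}, (∀ y ∈ L, InS C i j y) →
    GoodL C i' j' ci cj L →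
    ∀ {g : CTW D K}, g ∈ SL K L → theta C h g = 1 → g = 1
  | [], _, _, g, hg, _ => by
    simpa [SL, Subgroup.mem_closure] using hg
  | a :: T, hall, hgood, g, hg, hθ => by
    obtain ⟨s, b, hb, rfl⟩ := SL_cons C h hall hgood hg
    have hT : ∀ y ∈ T, InS C i j y := fun y hy => hall y (List.mem_cons_of_mem _ hy)
    have hinv : InvS C T ((theta C h b : GL D.Idx K) : Matrix D.Idx D.Idx K) ∧
        InvS C T (((theta C h b)⁻¹ : GL D.Idx K) : Matrix D.Idx D.Idx K) := by
      clear hθ hg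
      induction hb using Subgroup.closure_induction with
      | mem x hx =>
        obtain ⟨u, hu, t, rfl⟩ := hx
        rw [theta_gen C h (bas_of C (hT u hu)), C.X_inv]
        exact ⟨invS_X C h hu t, invS_X C h hu (-t)⟩
      | one =>
        have : InvS C T (1 : Matrix D.Idx D.Idx K) := by
          intro x y hne
          rcases eq_or_ne x y with rfl | hxy
          · rw [sub_self]; exact zero_mem _
          · simp [hxy] at hne
        simp [this]
      | mul x y _ _ hx hy =>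
        rw [map_mul, mul_inv_rev, Units.val_mul, Units.val_mul]
        exact ⟨invS_mul C h hx.1 hy.1, invS_mul C h hy.2 hx.2⟩
      | inv x _ hx =>
        rw [map_inv, inv_inv]
        exact ⟨hx.2, hx.1⟩
    have hna := goodL_head C h hgood
    rw [map_mul, theta_gen C h (bas_of C (hall a List.mem_cons_self))] at hθ
    have hX : C.X K a s = (theta C h b)⁻¹ := eq_inv_of_mul_eq_one_left hθ
    have hM := hinv.2
    rw [← hX] at hM
    have hs : s = 0 := by
      refine coeff_zero C h a (fun k => ?_) (fun k => ?_) <;> by_contra e <;> refine hna ?_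
      · simpa [Core.wt] using hM _ _ e
      · simpa [Core.wt, C.v_rev] using hM _ _ e
    subst hs
    rw [C.X_zero, one_mul] at hθ
    rw [gen_zero C h (bas_of C (hall a List.mem_cons_self)), one_mul]
    exact SL_inj hT hgood.2 hb hθ

theorem nR_p_conj (i : Fin D.rank) (c : Kˣ) (r : Rt D) :
    ∃ a : Kˣ, ∀ t : K, C.nR K (C.p i) c * C.X K r t * (C.nR K (C.p i) c)⁻¹ =
      C.X K (C.w i r) ((a : K) * t) := by
  have hn : C.nR K (C.p i) c =
      C.T K (Pi.mulSingle i c) * C.P K i * (C.T K (Pi.mulSingle i c))⁻¹ := by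
    rw [Core.P, C.T_nR_conj, C.chr_single, C.v_p]
    simp
  set χ : Fin D.rank → Kˣ := Pi.mulSingle i c
  refine ⟨C.chr K χ (C.w i r) * C.ηU K i r * (C.chr K χ r)⁻¹, fun t => ?_⟩
  have h1 : (C.T K χ)⁻¹ * C.X K r t * C.T K χ = C.X K r (((C.chr K χ r)⁻¹ : Kˣ) * t) := by
    have := C.T_X K χ r (((C.chr K χ r)⁻¹ : Kˣ) * t)
    rw [← mul_assoc, Units.mul_inv, one_mul] at this
    rw [mul_assoc, ← this]
    group
  rw [hn, show C.T K χ * C.P K i * (C.T K χ)⁻¹ * C.X K r t * (C.T K χ * C.P K i * (C.T K χ)⁻¹)⁻¹ =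
    C.T K χ * (C.P K i * ((C.T K χ)⁻¹ * C.X K r t * C.T K χ) * (C.P K i)⁻¹) * (C.T K χ)⁻¹ by group,
    h1, C.P_X_conj, C.T_X_conj]
  simp [Core.ηU, mul_assoc]

theorem locL_conj {i : Fin D.rank} {r : Rt D} (H : LocL C i r) (c : Kˣ) (t : K) :
    ∃ t' : K, nW C i (c : K) * gen r t * (nW C i (c : K))⁻¹ = gen (C.w i r) t' := by
  obtain ⟨j, ci, cj, L, hr, hwr, hgood, hall⟩ := H
  have hp := inS_p C i j
  have c1 : ∀ (s : K) {x : CTW D K}, x ∈ SL K L → gen (C.p i) s * x * (gen (C.p i) s)⁻¹ ∈ SL K L :=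
    fun s _ hx => SL_conj C h hp
      (fun y hy => ⟨(hall y hy).1, (hall y hy).2.1, (hall y hy).2.2.1, (hall y hy).2.2.2.1⟩) s hx
  have c2 : ∀ (s : K) {x : CTW D K}, x ∈ SL K L →
      gen (C.p i).rev s * x * (gen (C.p i).rev s)⁻¹ ∈ SL K L :=
    fun s _ hx => SL_conj C h (inS_rev C hp)
      (fun y hy => ⟨(hall y hy).1, (hall y hy).2.2.1, by rw [Fin.rev_rev]; exact (hall y hy).2.1,
        (hall y hy).2.2.2.2⟩) s hx
  have hU : nW C i (c : K) * gen r t * (nW C i (c : K))⁻¹ ∈ SL K L := by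
    have := c1 (c : K) (c2 (-(c : K)⁻¹) (c1 (c : K) (gen_mem_SL hr t)))
    convert this using 1
    simp only [nW]
    group
  obtain ⟨a, ha⟩ := nR_p_conj C h i c r
  refine ⟨(a : K) * t, eq_of_mul_inv_eq_one ?_⟩
  refine SL_inj C h (fun y hy => (hall y hy).1) hgood (mul_mem hU (inv_mem (gen_mem_SL hwr _))) ?_
  rw [map_mul, map_mul, map_mul, map_inv, map_inv, theta_nW C h, theta_gen C h (bas_of C (hall r hr).1),
    theta_gen C h (bas_of C (hall _ hwr).1), ha t, mul_inv_cancel]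

theorem locL_bas {i : Fin D.rank} {r : Rt D} (H : LocL C i r) : Bas C r := by
  obtain ⟨j, ci, cj, L, hr, -, -, hall⟩ := H
  exact bas_of C (hall r hr).1

theorem loc_bas {i : Fin D.rank} {r : Rt D} (H : Loc C i r) : Bas C r ∧ Bas C (C.w i r) := by
  rcases H with ⟨j, ci, cj, L, hr, hwr, -, hall⟩ | ⟨j, β, γ, pre, post, c, a, b, -, -, hs, -⟩
  · exact ⟨bas_of C (hall r hr).1, bas_of C (hall _ hwr).1⟩
  · exact ⟨bas_of C hs, bas_of C (inS_w C hs)⟩

theorem locL_wbas {i : Fin D.rank} {r : Rt D} (H : LocL C i r) : Bas C r ∧ Bas C (C.w i r) := by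
  obtain ⟨j, ci, cj, L, hr, hwr, -, hall⟩ := H
  exact ⟨bas_of C (hall r hr).1, bas_of C (hall _ hwr).1⟩

theorem loc_conj {i : Fin D.rank} {r : Rt D} (H : Loc C i r) (c : Kˣ) (t : K) :
    ∃ t' : K, nW C i (c : K) * gen r t * (nW C i (c : K))⁻¹ = gen (C.w i r) t' := by
  rcases H with H | ⟨j, β, γ, pre, post, e, a, b, hβ, hγ, hr, sβ, sγ, hne, hne', hE, he, hab, hpp,
    ci, cj, L, hgood, hLS, hwr, hwpp, hW⟩
  · exact locL_conj C h H c t
  -- choose parameters so that the distinguished term is gen r t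
  obtain ⟨t₀, u₀, ht₀⟩ : ∃ t₀ u₀ : K, (e : K) * (-t₀) ^ a * u₀ ^ b = t := by
    have hc2 : (e : K) * (e : K) = 1 := by rcases he with rfl | rfl <;> simp
    rcases hab with rfl | rfl
    · exact ⟨-((e : K) * t), 1, by rw [one_pow, mul_one, neg_neg, pow_one, ← mul_assoc, hc2, one_mul]⟩
    · exact ⟨-1, (e : K) * t, by rw [neg_neg, one_pow, mul_one, pow_one, ← mul_assoc, hc2, one_mul]⟩
  set g := nW C i (c : K) with hg
  have hconjE : ∀ M : List (Term D), (∀ x ∈ M, x ∈ pre ++ post) →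
      g * evalT gen t₀ u₀ M * g⁻¹ ∈ SL K L := by
    intro M hM
    induction M with
    | nil => simp [evalT]
    | cons x M ih =>
      have hx := hM x List.mem_cons_self
      obtain ⟨t', ht'⟩ := locL_conj C h (hpp x hx) c ((x.2.1 : K) * (-t₀) ^ x.2.2.1 * u₀ ^ x.2.2.2)
      have h1 := mul_mem (gen_mem_SL (K := K) (hwpp x hx) t')
        (ih fun y hy => hM y (List.mem_cons_of_mem _ hy))
      rw [← ht', ← hg] at h1
      convert h1 using 1
      simp only [evalT, List.map_cons, List.prod_cons]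
      group
  have hsplit : evalT gen t₀ u₀ (terms β γ) =
      evalT gen t₀ u₀ pre * gen r t * evalT gen t₀ u₀ post := by
    rw [hE, ← ht₀]
    simp only [evalT, List.map_append, List.map_cons, List.prod_append, List.prod_cons, mul_assoc]
  have hcomm : g * evalT gen t₀ u₀ (terms β γ) * g⁻¹ ∈ SL K L := by
    rw [← gen_comm C h sβ sγ hne hne']
    obtain ⟨u', hu'⟩ := locL_conj C h hγ c u₀
    obtain ⟨t', ht'⟩ := locL_conj C h hβ c t₀
    rw [← hg] at hu' ht'
    have hmap : g * ((gen γ u₀)⁻¹ * (gen β t₀)⁻¹ * gen γ u₀ * gen β t₀) * g⁻¹ =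
        (gen (C.w i γ) u')⁻¹ * (gen (C.w i β) t')⁻¹ * gen (C.w i γ) u' * gen (C.w i β) t' := by
      rw [← hu', ← ht']
      group
    have h1 : C.w i γ ≠ C.w i β := fun e => hne (by simpa [C.w_w] using congrArg (C.w i) e)
    rw [hmap, gen_comm C h (inS_w C sβ) (inS_w C sγ) h1 (C.w_ne_rev i hne')]
    exact evalT_mem _ _ _ _ fun x hx z => gen_mem_SL (hW x hx) z
  have hU : g * gen r t * g⁻¹ ∈ SL K L := by
    have := mul_mem (mul_mem (inv_mem (hconjE pre fun x hx => List.mem_append_left _ hx)) hcomm)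
      (inv_mem (hconjE post fun x hx => List.mem_append_right _ hx))
    convert this using 1
    rw [hsplit]
    group
  obtain ⟨a', ha'⟩ := nR_p_conj C h i c r
  refine ⟨(a' : K) * t, eq_of_mul_inv_eq_one ?_⟩
  refine SL_inj C h hLS hgood (mul_mem hU (inv_mem (gen_mem_SL hwr _))) ?_
  rw [hg, map_mul, map_mul, map_mul, map_inv, map_inv, theta_nW C h, theta_gen C h (bas_of C hr),
    theta_gen C h (bas_of C (hLS _ hwr)), ha' t, mul_inv_cancel]

end

/-- h̄ for a fundamental root. -/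
def hh (C : Core D) (k : Fin D.rank) (c : K) : CTW D K := nW C k c * nW C k (-1)

/-- The subgroup generated by the h̄ of the fundamental roots. -/
def Hs (C : Core D) (K : Type*) [Field K] : Subgroup (CTW D K) :=
  Subgroup.closure {g | ∃ (k : Fin D.rank) (c : Kˣ), g = hh C k (c : K)}

section

variable (C : Core D) (h : Hyp C) (T : Tree C) (B : Base C)
include C h

theorem nW_inv (i : Fin D.rank) (c : K) : (nW C i c : CTW D K)⁻¹ = nW C i (-c) := by
  simp only [nW, mul_inv_rev, gen_inv C h (bas_p C i), gen_inv C h (bas_p_rev C i), neg_neg, inv_neg, mul_assoc]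

theorem theta_hh (k : Fin D.rank) (c : Kˣ) : theta C h (hh C k (c : K)) = Core.hD K (C.p k) c := by
  rw [hh, map_mul, show (-1 : K) = ((-1 : Kˣ) : K) by simp, theta_nW C h, theta_nW C h, C.hR_eq]

include T

theorem cj_hh_loc {k : Fin D.rank} {r : Rt D} (H1 : Loc C k r) (H2 : Loc C k (C.w k r)) (c : Kˣ) :
    cj (hh C k (c : K)) (Xs C h T K r) = Xs C h T K r := by
  refine cj_of_param C h T (c ^ pr D (C.p k) r) fun t => ?_
  obtain ⟨t1, e1⟩ := loc_conj C h H1 (-1 : Kˣ) t
  obtain ⟨t2, e2⟩ := loc_conj C h H2 c t1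
  rw [C.w_w] at e2
  rw [Units.val_neg, Units.val_one] at e1
  have hb := (loc_bas C h H1).1
  refine Y_of_mem C h T ((mem_Xs C h T).2 ⟨t2, ?_⟩) ?_
  · rw [Y_bas C h T hb, Y_bas C h T hb, ← e2, ← e1, hh]
    group
  · rw [map_mul, map_mul, map_inv, theta_Y C h T, theta_hh C h, C.hD_X, mul_inv_cancel_right]

include B

theorem cj_hh_simple (k a : Fin D.rank) (c : Kˣ) :
    cj (hh C k (c : K)) (Xs C h T K (C.p a)) = Xs C h T K (C.p a) ∧
      cj (hh C k (c : K)) (Xs C h T K (C.p a).rev) = Xs C h T K (C.p a).rev :=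
  ⟨cj_hh_loc C h T (B.loc k a).1.1 (B.loc k a).1.2 c, cj_hh_loc C h T (B.loc k a).2.1 (B.loc k a).2.2 c⟩

theorem hh_conj_nW (k i : Fin D.rank) (c : Kˣ) (u : Kˣ) :
    hh C k (c : K) * nW C i (u : K) * (hh C k (c : K))⁻¹ =
      nW C i ((c ^ pr D (C.p k) (C.p i) * u : Kˣ) : K) := by
  obtain ⟨e1, e2⟩ := cj_hh_simple C h T B k i c
  have p1 : ∀ t, hh C k (c : K) * gen (C.p i) t * (hh C k (c : K))⁻¹ =
      gen (C.p i) (((c ^ pr D (C.p k) (C.p i) : Kˣ) : K) * t) := by
    intro t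
    rw [← Y_bas C h T (bas_p C i), ← Y_bas C h T (bas_p C i)]
    exact param_of_cj C h T e1 (by rw [theta_hh C h, C.hD_X, mul_inv_cancel_right])
  have p2 : ∀ t, hh C k (c : K) * gen (C.p i).rev t * (hh C k (c : K))⁻¹ =
      gen (C.p i).rev (((c ^ pr D (C.p k) (C.p i).rev : Kˣ) : K) * t) := by
    intro t
    rw [← Y_bas C h T (bas_p_rev C i), ← Y_bas C h T (bas_p_rev C i)]
    exact param_of_cj C h T e2 (by rw [theta_hh C h, C.hD_X, mul_inv_cancel_right])
  rw [show hh C k (c : K) * nW C i (u : K) * (hh C k (c : K))⁻¹ =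
    (hh C k (c : K) * gen (C.p i) (u : K) * (hh C k (c : K))⁻¹) *
    (hh C k (c : K) * gen (C.p i).rev (-(u : K)⁻¹) * (hh C k (c : K))⁻¹) *
    (hh C k (c : K) * gen (C.p i) (u : K) * (hh C k (c : K))⁻¹) by simp only [nW]; group, p1, p2, nW]
  have hA : pr D (C.p k) (C.p i).rev = - pr D (C.p k) (C.p i) := by
    rw [C.pr_p, C.pr_p, C.A_rev]
  rw [hA, zpow_neg, Units.val_mul, mul_inv, mul_neg, Units.val_inv_eq_inv_val]

omit T B in
theorem hh_mem (k : Fin D.rank) (c : Kˣ) : hh C k (c : K) ∈ Hs C K :=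
  Subgroup.subset_closure ⟨k, c, rfl⟩

omit T B in
theorem nW_one_sq (i : Fin D.rank) : (nn C i * nn C i : CTW D K) ∈ Hs C K := by
  have e : (nn C i * nn C i : CTW D K) = (hh C i ((-1 : Kˣ) : K))⁻¹ := by
    rw [hh, nn, Units.val_neg, Units.val_one, mul_inv_rev, nW_inv C h, neg_neg]
  rw [e]
  exact inv_mem (hh_mem C h i _)

omit T B in
theorem nW_mul_nn (i : Fin D.rank) (a : Kˣ) : nW C i (a : K) * nn C i ∈ Hs C K := by
  have e : nW C i (a : K) * nn C i = hh C i (a : K) * (nn C i * nn C i) := by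
    have hi : nW C i (-1 : K) = (nn C i)⁻¹ := by rw [nn, nW_inv C h]
    rw [hh, hi]
    group
  rw [e]
  exact mul_mem (hh_mem C h i a) (nW_one_sq C h i)

theorem Hs_normal (i : Fin D.rank) : ∀ g ∈ Hs C K, (nn C i)⁻¹ * g * nn C i ∈ Hs C K := by
  intro g hg
  induction hg using Subgroup.closure_induction with
  | mem x hx =>
    obtain ⟨k, c, rfl⟩ := hx
    have e := hh_conj_nW C h T B k i c 1
    rw [Units.val_one] at e
    set a : Kˣ := c ^ pr D (C.p k) (C.p i) * 1
    have e' : hh C k (c : K) * nn C i = nW C i (a : K) * hh C k (c : K) := by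
      rw [← e, nn]
      group
    have h2 : (nn C i)⁻¹ * nW C i (a : K) ∈ Hs C K := by
      have := inv_mem (nW_mul_nn C h i (-a))
      rw [mul_inv_rev, nW_inv C h, Units.val_neg, neg_neg] at this
      exact this
    rw [mul_assoc, e', ← mul_assoc]
    exact mul_mem h2 (hh_mem C h k c)
  | one => simp
  | mul x y _ _ hx hy =>
    have := mul_mem hx hy
    convert this using 1
    group
  | inv x _ hx =>
    have := inv_mem hx
    convert this using 1
    group

theorem Hs_nv : ∀ (ws : List (Fin D.rank)), ∀ g ∈ Hs C K, (nv C ws)⁻¹ * g * nv C ws ∈ Hs C K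
  | [], g, hg => by simpa [nv] using hg
  | i :: ws, g, hg => by
    have := Hs_nv ws _ (Hs_normal C h T B i g hg)
    convert this using 1
    simp only [nv]
    group

theorem loc_edge {i : Fin D.rank} {r : Rt D} (H : Loc C i r) : Edge C h T K i r := by
  refine cj_of_param C h T (C.ηU K i r) fun t => ?_
  obtain ⟨t', e⟩ := loc_conj C h H (1 : Kˣ) t
  obtain ⟨h1, h2⟩ := loc_bas C h H
  rw [Units.val_one] at e
  refine Y_of_mem C h T ((mem_Xs C h T).2 ⟨t', ?_⟩) ?_
  · rw [Y_bas C h T h1, Y_bas C h T h2]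
    exact e
  · rw [map_mul, map_mul, map_inv, theta_Y C h T, theta_nn C h, C.P_X_conj]
    rfl

theorem cj_Hs_bas {r : Rt D} (hr : Bas C r) : ∀ g ∈ Hs C K, cj g (Xs C h T K r) = Xs C h T K r := by
  have hsimple : ∀ a, ∀ g ∈ Hs C K, cj g (Xs C h T K (C.p a)) = Xs C h T K (C.p a) ∧
      cj g (Xs C h T K (C.p a).rev) = Xs C h T K (C.p a).rev := by
    intro a g hg
    induction hg using Subgroup.closure_induction with
    | mem x hx => obtain ⟨k, c, rfl⟩ := hx; exact cj_hh_simple C h T B k a c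
    | one => simp [cj_one]
    | mul x y _ _ hx hy => simp [cj_mul, hx, hy]
    | inv x _ hx => exact ⟨cj_inv x hx.1, cj_inv x hx.2⟩
  induction B.red r hr with
  | @simple r a h' =>
    rcases h' with rfl | rfl
    · exact fun g hg => (hsimple a g hg).1
    · exact fun g hg => (hsimple a g hg).2
  | @step r a hloc _ ih =>
    intro g hg
    have e : Edge C h T K a (C.w a r) := loc_edge C h T B hloc
    rw [Edge, C.w_w] at e
    rw [← e, ← cj_mul, show g * nn C a = nn C a * ((nn C a)⁻¹ * g * nn C a) by group, cj_mul,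
      ih (loc_bas C h hloc).1 _ (Hs_normal C h T B a g hg)]

theorem cj_Hs (r : Rt D) {g : CTW D K} (hg : g ∈ Hs C K) :
    cj g (Xs C h T K r) = Xs C h T K r := by
  have hY : Xs C h T K r = cj (nv C (T.wd r)) (Xs C h T K (T.bs r)) := by
    symm
    refine cj_of_param C h T ⟨(sgn C (T.wd r) (T.bs r) : K), (sgn C (T.wd r) (T.bs r) : K),
      by rw [← Int.cast_mul, sgn_mul_self]; simp, by rw [← Int.cast_mul, sgn_mul_self]; simp⟩ fun t => ?_
    rw [Y_bas C h T (T.bs_bas r), Y, ← mul_assoc, ← Int.cast_mul, sgn_mul_self]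
    simp
  rw [hY, ← cj_mul, show g * nv C (T.wd r) = nv C (T.wd r) * ((nv C (T.wd r))⁻¹ * g * nv C (T.wd r)) by group,
    cj_mul, cj_Hs_bas C h T B (T.bs_bas r) _ (Hs_nv C h T B _ g hg)]

end

end Cfsg.Agent.Lib.CurtisTits
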