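import Cfsg.Agent.Lib.CurtisTits.Kernel

/-!
Steinberg's group and its cover as central extensions of the Chevalley group, and the diagonal subgroup of
Steinberg's group as an image of a torus.
-/

set_option autoImplicit false
set_option linter.unusedSectionVars false

namespace Cfsg.Agent.Lib.CurtisTits

open Cfsg.Lie
open Cfsg.Agent.Lib.ChevStructure
open scoped MatrixGroups Matrix

universe u

variable {D : ChevalleyDatum} {K : Type u} [Field K] {C : Core D} {T : Tree C}

theorem toSt_surj : Function.Surjective (toSt : D.SteinbergCover K →* D.SteinbergGroup K) := by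
  intro x
  obtain ⟨g, rfl⟩ := PresentedGroup.mk_surjective (D.steinbergRels K) x
  exact ⟨_, toSt_mk g⟩

section

variable (cert : Cert.{u} C T)
include cert

/-- The map of the cover into the Chevalley group. -/
def coverMap (hs : SuppOne C) : D.SteinbergCover K →* ↥(D.group K) :=
  ((theta C cert.hyp).codRestrict (D.group K) (theta_mem_group cert hs)).comp (psiW cert)

theorem coverMap_gen (hs : SuppOne C) (r : Rt D) (t : K) :
    (coverMap cert hs (D.scGen K r.val t) : GL D.Idx K) = C.X K r t := by
  show theta C cert.hyp (psiW cert (D.scGen K r.val t)) = _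
  rw [psiW_gen cert, theta_Y C cert.hyp T]

theorem coverMap_surj (hs : SuppOne C) : Function.Surjective (coverMap (K := K) cert hs) := by
  rintro ⟨g, hg⟩
  obtain ⟨y, hy⟩ := exists_preimage cert hs hg
  obtain ⟨x, rfl⟩ := (ctwEquiv cert).symm.surjective y
  exact ⟨x, Subtype.ext hy⟩

theorem coverMap_ker (hs : SuppOne C) :
    (coverMap (K := K) cert hs).ker ≤ Subgroup.center (D.SteinbergCover K) := by
  intro x hx
  have h1 : theta C cert.hyp (psiW cert x) = 1 := congrArg Subtype.val hx
  have hc := Subgroup.mem_center_iff.1 (theta_ker_central cert hs h1)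
  rw [Subgroup.mem_center_iff]
  intro y
  refine (ctwEquiv cert).symm.injective ?_
  rw [map_mul, map_mul]
  exact hc _

theorem toSt_stH (hs : SuppOne C) (r : Rt D) (c : Kˣ) :
    toSt (phiW C cert.hyp (hY C T r (c : K))) = PresentedGroup.mk (D.steinbergRels K) (D.stH r.val (c : K)) := by
  rw [← toSt_mk]
  congr 1
  simp only [hY, nY, map_mul, phi_Y cert, ChevalleyDatum.scGen, ChevalleyDatum.stH, ChevalleyDatum.stWord,
    ChevalleyDatum.hWord, ChevalleyDatum.nWord, neg_val C cert.hyp, List.map_cons, List.map_nil,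
    List.cons_append, List.nil_append, List.prod_cons, List.prod_nil, mul_one, mul_assoc]

theorem coverMap_rels (hs : SuppOne C) : ∀ g ∈ D.steinbergRels K,
    FreeGroup.lift (fun x => (coverMap cert hs (PresentedGroup.of x) : ↥(D.group K))) g = 1 := by
  have lift_eq : ∀ g : FreeGroup (Fin D.nroots × K),
      FreeGroup.lift (fun x => (coverMap cert hs (PresentedGroup.of x) : ↥(D.group K))) g =
        coverMap cert hs (PresentedGroup.mk (D.steinbergRelsAB K) g) := by
    intro g
    induction g using FreeGroup.induction_on with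
    | C1 => simp
    | of x => simp [PresentedGroup.of]
    | inv_of x ih => simp [PresentedGroup.of]
    | mul x y hx hy => simp [hx, hy]
  rintro g (hg | ⟨r, t, u, hr, ht, hu, rfl⟩)
  · rw [lift_eq, PresentedGroup.one_of_mem (rels := D.steinbergRelsAB K) hg, map_one]
  · lift r to Rt D using hr
    have hX : ∀ (q : Rt D) (s : K),
        (coverMap cert hs (PresentedGroup.mk (D.steinbergRelsAB K) (D.stX q.val s)) : GL D.Idx K) = C.X K q s :=
      coverMap_gen cert hs
    have key : ∀ c : Kˣ, (coverMap cert hs (PresentedGroup.mk (D.steinbergRelsAB K) (D.stH r.val (c : K))) :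
        GL D.Idx K) = Core.hD K r c := by
      intro c
      rw [← C.hR_eq]
      simp only [ChevalleyDatum.stH, ChevalleyDatum.stWord, ChevalleyDatum.hWord, ChevalleyDatum.nWord,
        neg_val C cert.hyp, List.map_cons, List.map_nil, List.cons_append, List.nil_append, List.prod_cons,
        List.prod_nil, mul_one, map_mul, Subgroup.coe_mul, hX, Core.nR]
      simp [mul_assoc]
    have k1 := key (Units.mk0 t ht)
    have k2 := key (Units.mk0 u hu)
    have k3 := key (Units.mk0 t ht * Units.mk0 u hu)
    simp only [Units.val_mul, Units.val_mk0] at k1 k2 k3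
    apply Subtype.ext
    rw [lift_eq, map_mul, map_mul, map_mul, map_mul, map_inv, map_inv, Subgroup.coe_mul, Subgroup.coe_mul,
      Subgroup.coe_inv, k1, k2, k3, Subgroup.coe_one, mul_inv_eq_one, Core.hD, Core.hD, Core.hD, C.diag_mul]
    congr 1
    funext z
    simp [mul_zpow]

/-- The map of Steinberg's group into the Chevalley group. -/
def stMap (hs : SuppOne C) : D.SteinbergGroup K →* ↥(D.group K) :=
  PresentedGroup.toGroup (coverMap_rels cert hs)

theorem stMap_toSt (hs : SuppOne C) (x : D.SteinbergCover K) : stMap cert hs (toSt x) = coverMap cert hs x := by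
  obtain ⟨g, rfl⟩ := PresentedGroup.mk_surjective (D.steinbergRelsAB K) x
  rw [toSt_mk]
  show FreeGroup.lift _ g = _
  induction g using FreeGroup.induction_on with
  | C1 => simp
  | of x => simp [PresentedGroup.of]
  | inv_of x ih => simp [PresentedGroup.of]
  | mul x y hx hy => simp [hx, hy]

theorem stMap_gen (hs : SuppOne C) (r : Rt D) (t : K) :
    ((stMap cert hs (D.stGen K r.val t) : GL D.Idx K) : Matrix D.Idx D.Idx K) = D.x K r.val t := by
  rw [← stGen_toSt cert, stMap_toSt cert hs, coverMap_gen cert hs, C.X_val_x]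

theorem stMap_surj (hs : SuppOne C) : Function.Surjective (stMap (K := K) cert hs) := fun y => by
  obtain ⟨x, rfl⟩ := coverMap_surj cert hs y
  exact ⟨toSt x, stMap_toSt cert hs x⟩

theorem stMap_unique (hs : SuppOne C) (θ : D.SteinbergGroup K →* ↥(D.group K))
    (hθ : ∀ (r : ℕ) (t : K), r < D.nroots →
      ((θ (D.stGen K r t) : GL D.Idx K) : Matrix D.Idx D.Idx K) = D.x K r t) : θ = stMap cert hs := by
  refine PresentedGroup.ext fun ⟨r, t⟩ => Subtype.ext (Units.ext ?_)
  have e : D.stGen K r.val t = PresentedGroup.of (r, t) := by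
    simp [ChevalleyDatum.stGen, ChevalleyDatum.stX, PresentedGroup.of]
  rw [← e, hθ r.val t r.isLt, stMap_gen cert hs]

theorem stMap_ker (hs : SuppOne C) :
    (stMap (K := K) cert hs).ker = Subgroup.center (D.SteinbergGroup K) := by
  refine le_antisymm (fun x hx => ?_) (fun z hz => ?_)
  · obtain ⟨y, rfl⟩ := toSt_surj x
    rw [MonoidHom.mem_ker, stMap_toSt cert hs] at hx
    have hc := Subgroup.mem_center_iff.1 (coverMap_ker cert hs (MonoidHom.mem_ker.2 hx))
    rw [Subgroup.mem_center_iff]
    intro w
    obtain ⟨v, rfl⟩ := toSt_surj w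
    rw [← map_mul, ← map_mul, hc v]
  · rw [MonoidHom.mem_ker]
    refine Subtype.ext (center_trivial cert hs (stMap cert hs z).2 fun x hx => ?_)
    obtain ⟨y, hy⟩ := stMap_surj cert hs ⟨x, hx⟩
    have := congrArg Subtype.val (congrArg (stMap cert hs) (Subgroup.mem_center_iff.1 hz y))
    rw [map_mul, map_mul, hy] at this
    exact this

/-- The element h̄ of a fundamental root in Steinberg's group. -/
def hSt (hs : SuppOne C) (i : Fin D.rank) (c : Kˣ) : D.SteinbergGroup K :=
  toSt (phiW C cert.hyp (hh C i (c : K)))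

theorem hSt_eq (hs : SuppOne C) (i : Fin D.rank) (c : Kˣ) :
    hSt cert hs i c = PresentedGroup.mk (D.steinbergRels K) (D.stH (C.p i).val (c : K)) := by
  rw [← toSt_stH cert hs, hSt, hY, hh]
  simp [nY, nW, Y_bas C cert.hyp T (bas_p C i), Y_bas C cert.hyp T (bas_p_rev C i)]

theorem hSt_mul (hs : SuppOne C) (i : Fin D.rank) (t u : Kˣ) :
    hSt cert hs i (t * u) = hSt cert hs i t * hSt cert hs i u := by
  rw [hSt_eq, hSt_eq, hSt_eq, ← map_mul, eq_comm, ← mul_inv_eq_one, ← map_inv, ← map_mul, Units.val_mul]
  exact PresentedGroup.one_of_mem (Or.inr ⟨(C.p i).val, (t : K), (u : K), (C.p i).isLt, t.ne_zero, u.ne_zero, rfl⟩)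

theorem hSt_comm (hs : SuppOne C) (k i : Fin D.rank) (c u : Kˣ) :
    Commute (hSt cert hs k c) (hSt cert hs i u) := by
  set a : Kˣ := c ^ pr D (C.p k) (C.p i)
  have e1 := hh_conj_nW C cert.hyp T cert.base k i c u
  have e2 := hh_conj_nW C cert.hyp T cert.base k i c (-1)
  have h2 : nW C i ((a * -1 : Kˣ) : K) = (hh C i (a : K) * nn C i)⁻¹ := by
    rw [show ((a * -1 : Kˣ) : K) = -(a : K) by simp, ← nW_inv C cert.hyp, hh,
      show nW C i (-1 : K) = (nn C i)⁻¹ by rw [nn, nW_inv C cert.hyp], inv_mul_cancel_right]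
  have h3 : nW C i ((a * u : Kˣ) : K) = hh C i ((a * u : Kˣ) : K) * nn C i := by
    rw [hh, show nW C i (-1 : K) = (nn C i)⁻¹ by rw [nn, nW_inv C cert.hyp], inv_mul_cancel_right]
  have h4 : hh C k (c : K) * hh C i (u : K) * (hh C k (c : K))⁻¹ =
      hh C i ((a * u : Kˣ) : K) * (hh C i (a : K))⁻¹ := by
    rw [show hh C k (c : K) * hh C i (u : K) * (hh C k (c : K))⁻¹ =
      (hh C k (c : K) * nW C i (u : K) * (hh C k (c : K))⁻¹) *
        (hh C k (c : K) * nW C i ((-1 : Kˣ) : K) * (hh C k (c : K))⁻¹) by
        rw [Units.val_neg, Units.val_one]; simp only [hh]; group, e1, e2]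
    show nW C i ((a * u : Kˣ) : K) * nW C i ((a * -1 : Kˣ) : K) = _
    rw [h2, h3]
    group
  have h5 := congrArg (fun g => toSt (phiW C cert.hyp g)) h4
  simp only [map_mul, map_inv] at h5
  change hSt cert hs k c * hSt cert hs i u * (hSt cert hs k c)⁻¹ =
    hSt cert hs i (a * u) * (hSt cert hs i a)⁻¹ at h5
  rw [mul_comm a u, hSt_mul, mul_inv_cancel_right] at h5
  exact mul_inv_eq_iff_eq_mul.1 h5

/-- The torus mapped onto the diagonal subgroup of Steinberg's group. -/
def torus (hs : SuppOne C) : (Fin D.rank → Kˣ) →* D.SteinbergGroup K :=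
  MonoidHom.noncommPiCoprod (fun i =>
    { toFun := hSt cert hs i
      map_one' := by
        have := hSt_mul cert hs i (1 : Kˣ) 1
        rw [one_mul] at this
        exact left_eq_mul.1 this
      map_mul' := hSt_mul cert hs i })
    fun i j _ x y => hSt_comm cert hs i j x y

theorem torus_single (hs : SuppOne C) (i : Fin D.rank) (c : Kˣ) :
    torus cert hs (Pi.mulSingle i c) = hSt cert hs i c :=
  MonoidHom.noncommPiCoprod_mulSingle _ _ _

theorem torus_mem (hs : SuppOne C) {S : Subgroup (D.SteinbergGroup K)} (hS : ∀ i c, hSt cert hs i c ∈ S)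
    (c : Fin D.rank → Kˣ) : torus cert hs c ∈ S := by
  refine Subgroup.pi_mem_of_mulSingle_mem (H := S.comap (torus cert hs)) c fun i => ?_
  rw [Subgroup.mem_comap, torus_single]
  exact hS i _

theorem toSt_phiW_Hs (hs : SuppOne C) {g : CTW D K} (hg : g ∈ Hs C K) :
    toSt (phiW C cert.hyp g) ∈ (torus (K := K) cert hs).range := by
  induction hg using Subgroup.closure_induction with
  | mem x hx =>
    obtain ⟨k, c, rfl⟩ := hx
    exact ⟨_, torus_single cert hs k c⟩
  | one => simp
  | mul x y _ _ hx hy => rw [map_mul, map_mul]; exact mul_mem hx hy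
  | inv x _ hx => rw [map_inv, map_inv]; exact inv_mem hx

theorem stMap_ker_torus (hs : SuppOne C) {x : D.SteinbergGroup K} (hx : stMap cert hs x = 1) :
    ∃ c, torus cert hs c = x := by
  obtain ⟨y, rfl⟩ := toSt_surj x
  rw [stMap_toSt cert hs] at hx
  have h1 : theta C cert.hyp (psiW cert y) = 1 := congrArg Subtype.val hx
  have := toSt_phiW_Hs cert hs (ker_mem_Hs cert hs h1)
  rwa [show phiW C cert.hyp (psiW cert y) = y from (ctwEquiv cert).apply_symm_apply y] at this

theorem stMap_torus (hs : SuppOne C) (c : Fin D.rank → Kˣ) :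
    (stMap cert hs (torus cert hs c) : GL D.Idx K) = Core.diag K fun r => ∏ k, c k ^ A D k r := by
  let φ : (Fin D.rank → Kˣ) →* GL D.Idx K :=
    { toFun := fun c => Core.diag K fun r => ∏ k, c k ^ A D k r
      map_one' := by
        rw [← C.diag_one]
        congr 1
        funext r
        simp
      map_mul' := fun a b => by
        rw [C.diag_mul]
        congr 1
        funext r
        simp [mul_zpow, Finset.prod_mul_distrib] }
  have e : ((D.group K).subtype.comp ((stMap cert hs).comp (torus cert hs))) = φ := by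
    refine MonoidHom.pi_ext fun i x => ?_
    show (stMap cert hs (torus cert hs (Pi.mulSingle i x)) : GL D.Idx K) = φ (Pi.mulSingle i x)
    rw [torus_single, hSt, stMap_toSt cert hs]
    show theta C cert.hyp (psiW cert (phiW C cert.hyp (hh C i (x : K)))) = _
    rw [show psiW cert (phiW C cert.hyp (hh C i (x : K))) = hh C i (x : K) from
      (ctwEquiv (K := K) cert).symm_apply_apply (hh C i (x : K)), theta_hh C cert.hyp, Core.hD]
    show _ = Core.diag K _
    congr 1
    funext r
    rw [C.pr_p, Finset.prod_eq_single i] <;> simp +contextual [Pi.mulSingle_apply]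
  exact DFunLike.congr_fun e c

theorem torus_ker_iff (hs : SuppOne C) (c : Fin D.rank → Kˣ) :
    stMap cert hs (torus cert hs c) = 1 ↔ ∀ i, ∏ k, c k ^ A D k (C.p i) = 1 := by
  constructor
  · intro h i
    have h1 := congrArg Subtype.val h
    rw [stMap_torus cert hs, OneMemClass.coe_one, ← C.diag_one] at h1
    exact congrFun (C.diag_inj K h1) (C.p i)
  · intro h
    refine Subtype.ext ?_
    rw [stMap_torus cert hs, OneMemClass.coe_one, ← C.diag_one]
    congr 1
    funext r
    refine C.ind (fun r => ∏ k, c k ^ A D k r = 1) h ?_ r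
    intro i r ih
    simp only [C.A_w, zpow_sub, Finset.prod_mul_distrib, ih, one_mul, Finset.prod_inv_distrib, inv_eq_one]
    calc ∏ k, c k ^ (A D i r * A D k (C.p i)) = (∏ k, c k ^ A D k (C.p i)) ^ A D i r := by
          rw [← Finset.prod_zpow]
          exact Finset.prod_congr rfl fun k _ => by rw [← zpow_mul, mul_comm]
      _ = 1 := by rw [h i, one_zpow]

/-- An inverse of the Cartan matrix over the integers makes the centre trivial. -/
theorem center_bot (hs : SuppOne C) (B : Fin D.rank → Fin D.rank → ℤ)
    (hB : ∀ k m, ∑ i, A D k (C.p i) * B i m = if k = m then 1 else 0) :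
    Subgroup.center (D.SteinbergGroup K) = ⊥ := by
  rw [← stMap_ker cert hs, Subgroup.eq_bot_iff_forall]
  intro x hx
  obtain ⟨c, rfl⟩ := stMap_ker_torus cert hs hx
  have h := (torus_ker_iff cert hs c).1 hx
  suffices c = 1 by rw [this, map_one]
  funext m
  have : ∏ i, (∏ k, c k ^ A D k (C.p i)) ^ B i m = 1 := by simp [h]
  have aux : ∀ (k : Fin D.rank) (s : Finset (Fin D.rank)),
      ∏ i ∈ s, c k ^ (A D k (C.p i) * B i m) = c k ^ ∑ i ∈ s, A D k (C.p i) * B i m := by
    intro k s
    induction s using Finset.induction_on with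
    | empty => simp
    | insert a t ha ih => rw [Finset.prod_insert ha, Finset.sum_insert ha, zpow_add, ih]
  simp only [← Finset.prod_zpow, ← zpow_mul] at this
  rw [Finset.prod_comm] at this
  simp only [aux, hB] at this
  rw [Finset.prod_eq_single m] at this <;> simp_all

end

/-- The check for `SuppOne`. -/
def suppOneB (C : Core D) : Bool :=
  (List.finRange D.nroots).all fun r => (List.finRange D.rank).all fun a =>
    !((List.finRange D.rank).all fun k => decide (k = a) || decide (C.v r k = 0)) ||
      decide (r = C.p a) || decide (r = (C.p a).rev)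

theorem suppOneB_sound (H : suppOneB C = true) : SuppOne C := by
  intro a r hr
  simp only [suppOneB, List.all_eq_true, Bool.or_eq_true, decide_eq_true_eq] at H
  have h1 : ((List.finRange D.rank).all fun k => decide (k = a) || decide (C.v r k = 0)) = true := by
    simp only [List.all_eq_true, Bool.or_eq_true, decide_eq_true_eq]
    intro k _
    by_cases hk : k = a
    · exact Or.inl hk
    · exact Or.inr (hr k hk hk)
  have := H r (List.mem_finRange r) a (List.mem_finRange a)
  simpa [h1] using this

end Cfsg.Agent.Lib.CurtisTits
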