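import Cfsg.Agent.Lib.ChevStructure.CommGL

/-!
The terms of the commutator formula as lists of roots, their behaviour under the fundamental
reflections, and the formula as an identity in the general linear group.
-/

set_option autoImplicit false
set_option linter.unusedSectionVars false

namespace Cfsg.Agent.Lib.CurtisTits

open Cfsg.Lie
open Cfsg.Agent.Lib.ChevStructure
open scoped MatrixGroups Matrix

variable {D : ChevalleyDatum}

/-- A term of the commutator formula with its root as an element of `Rt D`. -/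
abbrev Term (D : ChevalleyDatum) : Type := Rt D × ℤ × ℕ × ℕ

/-- Lift the root of a tabulated term. -/
def liftTerm (D : ChevalleyDatum) (e : ℕ × ℤ × ℕ × ℕ) : Option (Term D) :=
  if h : e.1 < D.nroots then some (⟨e.1, h⟩, e.2) else none

/-- The terms of the commutator formula for (r, s). -/
def terms (r s : Rt D) : List (Term D) := (D.commTerms r.val s.val).filterMap (liftTerm D)

/-- The product of the images of the terms. -/
def evalT {M : Type*} [Monoid M] {R : Type*} [CommRing R] (f : Rt D → R → M) (t u : R)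
    (L : List (Term D)) : M :=
  (L.map fun e => f e.1 ((e.2.1 : R) * (-t) ^ e.2.2.1 * u ^ e.2.2.2)).prod

theorem evalT_map {M N : Type*} [Monoid M] [Monoid N] {R : Type*} [CommRing R] (φ : M →* N)
    (f : Rt D → R → M) (t u : R) (L : List (Term D)) :
    φ (evalT f t u L) = evalT (fun r c => φ (f r c)) t u L := by
  simp [evalT, map_list_prod, List.map_map, Function.comp_def]

theorem evalT_congr {M : Type*} [Monoid M] {R : Type*} [CommRing R] {f g : Rt D → R → M} (t u : R)
    {L : List (Term D)} (h : ∀ e ∈ L, ∀ c, f e.1 c = g e.1 c) : evalT f t u L = evalT g t u L := by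
  simp only [evalT]
  congr 1
  exact List.map_congr_left fun e he => h e he _

theorem commTerms_cases (Hm : Mild D) (r s : Rt D) (h : s ≠ r.rev) :
    (D.chainEntry r.val s.val = [] ∧ D.chainEntry s.val r.val = [] ∧ D.commTerms r.val s.val = []) ∨
    (∃ (q : Rt D) (M : ℤ), M ≠ 0 ∧ D.chainEntry r.val s.val = [(q.val, M)] ∧
      D.chainEntry s.val r.val = [(q.val, -M)] ∧ D.commTerms r.val s.val = [(q.val, M, 1, 1)]) ∨
    (∃ (q q' : Rt D) (M M' : ℤ), M ≠ 0 ∧ M' ≠ 0 ∧
      D.chainEntry r.val s.val = [(q.val, M), (q'.val, M')] ∧ D.chainEntry s.val r.val = [(q.val, -M)] ∧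
      D.commTerms r.val s.val = [(q.val, M, 1, 1), (q'.val, M', 2, 1)]) ∨
    (∃ (q q' : Rt D) (M M' : ℤ), M ≠ 0 ∧ M' ≠ 0 ∧
      D.chainEntry r.val s.val = [(q.val, M)] ∧ D.chainEntry s.val r.val = [(q.val, -M), (q'.val, M')] ∧
      D.commTerms r.val s.val = [(q.val, M, 1, 1), (q'.val, M', 1, 2)]) := by
  have hsy := Hm.symm r s h
  have l1 := Hm.len r s
  have l2 := Hm.len s r
  match h1 : D.chainEntry r.val s.val, h2 : D.chainEntry s.val r.val with
  | [], [] =>
    refine Or.inl ⟨rfl, rfl, ?_⟩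
    simp [ChevalleyDatum.commTerms, ChevalleyDatum.chainRoot, h1, h2]
  | [], _ :: _ => rw [h1, h2] at hsy; simp at hsy
  | _ :: _, [] => rw [h1, h2] at hsy; simp at hsy
  | (q0, M) :: e1, (q0', M0) :: e2 =>
    rw [h1, h2] at hsy
    simp at hsy
    obtain ⟨rfl, rfl⟩ := hsy
    have hq : q0 < D.nroots := Hm.lt r s (q0, -M0) (by simp [h1])
    lift q0 to Rt D using hq with q
    have hM : M0 ≠ 0 := Hm.nz s r (q.val, M0) (by simp [h2])
    match he1 : e1, he2 : e2 with
    | [], [] =>
      refine Or.inr (Or.inl ⟨q, -M0, neg_ne_zero.2 hM, rfl, by rw [neg_neg], ?_⟩)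
      simp [ChevalleyDatum.commTerms, ChevalleyDatum.chainRoot, ChevalleyDatum.chainM, h1, h2]
    | (q0', M') :: [], [] =>
      have hq' : q0' < D.nroots := Hm.lt r s (q0', M') (by simp [h1])
      lift q0' to Rt D using hq' with q'
      obtain ⟨-, -, -, -, -, N, hrq, -, hN⟩ := Hm.pair r s q q' _ _ h1
      have hN0 : N ≠ 0 := Hm.nz r q (q'.val, N) (by simp [hrq])
      have hM' : M' ≠ 0 := by
        rintro rfl
        simp [hM, hN0] at hN
      refine Or.inr (Or.inr (Or.inl ⟨q, q', -M0, M', neg_ne_zero.2 hM, hM', rfl, by rw [neg_neg], ?_⟩))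
      simp [ChevalleyDatum.commTerms, ChevalleyDatum.chainRoot, ChevalleyDatum.chainM, h1, h2]
    | [], (q0', M') :: [] =>
      have hq' : q0' < D.nroots := Hm.lt s r (q0', M') (by simp [h2])
      lift q0' to Rt D using hq' with q'
      obtain ⟨-, -, -, -, -, N, hsq, -, hN⟩ := Hm.pair s r q q' _ _ h2
      have hN0 : N ≠ 0 := Hm.nz s q (q'.val, N) (by simp [hsq])
      have hM' : M' ≠ 0 := by
        rintro rfl
        simp [hM, hN0] at hN
      refine Or.inr (Or.inr (Or.inr ⟨q, q', -M0, M', neg_ne_zero.2 hM, hM', rfl, by rw [neg_neg], ?_⟩))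
      simp [ChevalleyDatum.commTerms, ChevalleyDatum.chainRoot, ChevalleyDatum.chainM, h1, h2]
    | (q0', M') :: [], _ :: [] =>
      have hq' : q0' < D.nroots := Hm.lt r s (q0', M') (by simp [h1])
      lift q0' to Rt D using hq' with q'
      obtain ⟨-, -, -, -, p5, -⟩ := Hm.pair r s q q' _ _ h1
      rw [h2] at p5
      simp at p5
    | _ :: _ :: _, _ => rw [h1] at l1; simp at l1
    | _, _ :: _ :: _ => rw [h2] at l2; simp at l2

theorem mem_terms {r s : Rt D} {e : Term D} :
    e ∈ terms r s ↔ (e.1.val, e.2) ∈ D.commTerms r.val s.val := by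
  simp only [terms, List.mem_filterMap, liftTerm]
  constructor
  · rintro ⟨⟨q, x⟩, hc, he⟩
    split_ifs at he with hq
    obtain rfl := Option.some.inj he
    exact hc
  · intro he
    exact ⟨_, he, by rw [dif_pos e.1.isLt]⟩

theorem commTerms_eq {C : Core D} (H : CommOK C) (r s : Rt D) (hrs : s ≠ r) (h : s ≠ r.rev) :
    D.commTerms r.val s.val = (terms r s).map fun e => (e.1.val, e.2) := by
  have key : ∀ L : List (ℕ × ℤ × ℕ × ℕ), (∀ c ∈ L, c.1 < D.nroots) →
      L = (L.filterMap (liftTerm D)).map fun e => (e.1.val, e.2) := by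
    intro L hL
    induction L with
    | nil => rfl
    | cons c L ih =>
      have hc := hL c List.mem_cons_self
      rw [List.filterMap_cons_some (by rw [liftTerm, dif_pos hc]), List.map_cons,
        ← ih fun x hx => hL x (List.mem_cons_of_mem _ hx)]
  refine key _ fun c hc => ?_
  obtain ⟨q, hq, -⟩ := H.terms r s hrs h c hc
  rw [hq]
  exact q.isLt

theorem terms_weight {C : Core D} (H : CommOK C) {r s : Rt D} (hrs : s ≠ r) (h : s ≠ r.rev) {e : Term D}
    (he : e ∈ terms r s) : 1 ≤ e.2.2.1 ∧ 1 ≤ e.2.2.2 ∧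
      C.v e.1 = (e.2.2.1 : ℤ) • C.v r + (e.2.2.2 : ℤ) • C.v s := by
  obtain ⟨q, hq, h1, h2, h3⟩ := H.terms r s hrs h _ (mem_terms.1 he)
  have : e.1 = q := Fin.ext hq
  exact ⟨h1, h2, this ▸ h3⟩

theorem commWord_eq {C : Core D} (H : CommOK C) {K : Type*} [Field K] (r s : Rt D) (hrs : s ≠ r)
    (h : s ≠ r.rev) (t u : K) :
    D.commWord K r.val s.val t u =
      (terms r s).map fun e => (e.1.val, (e.2.1 : K) * (-t) ^ e.2.2.1 * u ^ e.2.2.2) := by
  simp [ChevalleyDatum.commWord, commTerms_eq H r s hrs h, List.map_map, Function.comp_def]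

section Chains

variable (C : Core D)
include C

theorem chM_eq_of {k : ℕ} {r s q : Rt D} {M : ℤ}
    (h : (D.chainEntry r.val s.val)[k]? = some (q.val, M)) : chM D (k + 1) r s q = M := by
  simp [C.chM_entry k, h]

theorem entry_of_chM (Hm : Mild D) {k : ℕ} {r s q : Rt D} {M : ℤ} (hM : M ≠ 0)
    (h : chM D (k + 1) r s q = M) : (D.chainEntry r.val s.val)[k]? = some (q.val, M) := by
  rw [C.chM_entry k] at h
  match e : (D.chainEntry r.val s.val)[k]? with
  | none => rw [e] at h; exact absurd h.symm hM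
  | some (a, b) =>
    rw [e] at h
    simp only at h
    split_ifs at h with ha
    · subst h; rw [ha]
    · exact absurd h.symm hM

theorem chM2_w (i : Fin D.rank) (r s u : Rt D) (h : s ≠ r.rev) :
    chM D 2 (C.w i r) (C.w i s) (C.w i u) = C.η i s * C.η i u * chM D 2 r s u := by
  have e2 := C.chM_succ 1 (C.w i r) (C.w i s) (C.w i u) (C.w_ne_rev i h)
  rw [← Equiv.sum_comp (Function.Involutive.toPerm (C.w i) (C.w_w i))] at e2
  simp only [Function.Involutive.toPerm, Equiv.coe_fn_mk, C.chM_w i r s _ h] at e2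
  have e1 := C.chM_succ 1 r s u h
  have key : ∀ x, C.η i r * C.η i s * C.η i x * chM D 1 r s x * chM D 1 (C.w i r) (C.w i x) (C.w i u) =
      C.η i s * C.η i u * (chM D 1 r s x * chM D 1 r x u) := by
    intro x
    by_cases hx : chM D 1 r s x = 0
    · simp [hx]
    · rw [C.chM_w i r x u (C.chM_tgt 0 r s x hx).1]
      have h1 := C.η_mul_self i r
      have h2 := C.η_mul_self i x
      linear_combination (C.η i s * C.η i u * chM D 1 r s x * chM D 1 r x u * (C.η i x * C.η i x)) * h1 +
        (C.η i s * C.η i u * chM D 1 r s x * chM D 1 r x u) * h2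
  simp only [key, ← Finset.mul_sum, e1] at e2
  norm_num at e2
  linarith

theorem entry0_w (Hm : Mild D) (i : Fin D.rank) {r s q : Rt D} {M : ℤ} (h : s ≠ r.rev) (hM : M ≠ 0)
    (e : (D.chainEntry r.val s.val)[0]? = some (q.val, M)) :
    (D.chainEntry (C.w i r).val (C.w i s).val)[0]? =
      some ((C.w i q).val, C.η i r * C.η i s * C.η i q * M) := by
  refine entry_of_chM C Hm ?_ ?_
  · rcases C.η_one i r with a | a <;> rcases C.η_one i s with b | b <;> rcases C.η_one i q with c | c <;>
      simp [a, b, c, hM]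
  · rw [C.chM_w i r s q h, chM_eq_of C e]

theorem entry1_w (Hm : Mild D) (i : Fin D.rank) {r s q : Rt D} {M : ℤ} (h : s ≠ r.rev) (hM : M ≠ 0)
    (e : (D.chainEntry r.val s.val)[1]? = some (q.val, M)) :
    (D.chainEntry (C.w i r).val (C.w i s).val)[1]? = some ((C.w i q).val, C.η i s * C.η i q * M) := by
  refine entry_of_chM C Hm ?_ ?_
  · rcases C.η_one i s with b | b <;> rcases C.η_one i q with c | c <;>
      simp [b, c, hM]
  · rw [chM2_w C i r s q h, chM_eq_of C e]

theorem entry_none_w (Hm : Mild D) (i : Fin D.rank) {r s : Rt D} (h : s ≠ r.rev) (k : ℕ) (hk : k < 2)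
    (e : (D.chainEntry r.val s.val)[k]? = none) :
    (D.chainEntry (C.w i r).val (C.w i s).val)[k]? = none := by
  match e' : (D.chainEntry (C.w i r).val (C.w i s).val)[k]? with
  | none => rfl
  | some (a, b) =>
    exfalso
    have hs' := C.w_ne_rev i h
    have ha : a < D.nroots := Hm.lt _ _ (a, b) (List.mem_of_getElem? e')
    lift a to Rt D using ha with x
    interval_cases k
    · have := entry0_w C Hm i hs' (Hm.nz _ _ _ e') e'
      rw [C.w_w, C.w_w, e] at this
      simp at this
    · have hb : b ≠ 0 := by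
        have hl := Hm.len (C.w i r) (C.w i s)
        match hE : D.chainEntry (C.w i r).val (C.w i s).val with
        | [] => simp [hE] at e'
        | [_] => simp [hE] at e'
        | [(q0, M0), (a', b')] =>
          simp [hE] at e'
          obtain ⟨rfl, rfl⟩ := e'
          have hq0 : q0 < D.nroots := Hm.lt (C.w i r) (C.w i s) (q0, M0) (by simp [hE])
          lift q0 to Rt D using hq0 with q
          obtain ⟨-, -, -, -, -, N, hN1, -, hN⟩ := Hm.pair _ _ q x _ _ hE
          rintro rfl
          have h1 := Hm.nz (C.w i r) (C.w i s) (q.val, M0) (by rw [hE]; rfl)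
          have h2 := Hm.nz (C.w i r) q (x.val, N) (by rw [hN1]; rfl)
          simp at h1 h2
          simp [h1, h2] at hN
        | _ :: _ :: _ :: _ => rw [hE] at hl; simp at hl
      have := entry1_w C Hm i hs' hb e'
      rw [C.w_w, C.w_w, e] at this
      simp at this

omit C in
theorem len_le_two_ext {L L' : List (ℕ × ℤ)} (h1 : L.length ≤ 2) (h2 : L'.length ≤ 2)
    (e0 : L[0]? = L'[0]?) (e1 : L[1]? = L'[1]?) : L = L' := by
  apply List.ext_getElem?
  intro n
  match n with
  | 0 => exact e0
  | 1 => exact e1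
  | n + 2 => rw [List.getElem?_eq_none (by omega), List.getElem?_eq_none (by omega)]

/-- The action of a fundamental reflection on the terms. -/
def mapTerm (i : Fin D.rank) (r s : Rt D) (e : Term D) : Term D :=
  (C.w i e.1, C.η i r ^ e.2.2.1 * C.η i s ^ e.2.2.2 * C.η i e.1 * e.2.1, e.2.2)

theorem terms_w (Hm : Mild D) (i : Fin D.rank) (r s : Rt D) (h : s ≠ r.rev) :
    terms (C.w i r) (C.w i s) = (terms r s).map (mapTerm C i r s) := by
  have h' : r ≠ s.rev := fun e => h (by rw [e, Fin.rev_rev])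
  have hw : C.w i s ≠ (C.w i r).rev := C.w_ne_rev i h
  have l1 := Hm.len (C.w i r) (C.w i s)
  have l2 := Hm.len (C.w i s) (C.w i r)
  have hηr := C.η_mul_self i r
  have hηs := C.η_mul_self i s
  rcases commTerms_cases Hm r s h with ⟨a, b, e⟩ | ⟨q, M, hM, a, b, e⟩ | ⟨q, q', M, M', hM, hM', a, b, e⟩ |
    ⟨q, q', M, M', hM, hM', a, b, e⟩
  · have A : D.chainEntry (C.w i r).val (C.w i s).val = [] := len_le_two_ext l1 (by simp)
      (by rw [entry_none_w C Hm i h 0 (by omega) (by rw [a]; rfl)]; rfl)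
      (by rw [entry_none_w C Hm i h 1 (by omega) (by rw [a]; rfl)]; rfl)
    have B : D.chainEntry (C.w i s).val (C.w i r).val = [] := len_le_two_ext l2 (by simp)
      (by rw [entry_none_w C Hm i h' 0 (by omega) (by rw [b]; rfl)]; rfl)
      (by rw [entry_none_w C Hm i h' 1 (by omega) (by rw [b]; rfl)]; rfl)
    simp only [terms]
    rw [e]
    simp [ChevalleyDatum.commTerms, ChevalleyDatum.chainRoot, A, B]
  · have A : D.chainEntry (C.w i r).val (C.w i s).val = [((C.w i q).val, C.η i r * C.η i s * C.η i q * M)] :=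
      len_le_two_ext l1 (by simp) (by rw [entry0_w C Hm i h hM (by rw [a]; rfl)]; rfl)
        (by rw [entry_none_w C Hm i h 1 (by omega) (by rw [a]; rfl)]; rfl)
    have B : D.chainEntry (C.w i s).val (C.w i r).val =
        [((C.w i q).val, C.η i s * C.η i r * C.η i q * -M)] :=
      len_le_two_ext l2 (by simp) (by rw [entry0_w C Hm i h' (neg_ne_zero.2 hM) (by rw [b]; rfl)]; rfl)
        (by rw [entry_none_w C Hm i h' 1 (by omega) (by rw [b]; rfl)]; rfl)
    simp only [terms]
    rw [e]
    simp [ChevalleyDatum.commTerms, ChevalleyDatum.chainRoot, ChevalleyDatum.chainM, A, B,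
      liftTerm, mapTerm]
  · have A : D.chainEntry (C.w i r).val (C.w i s).val = [((C.w i q).val, C.η i r * C.η i s * C.η i q * M),
        ((C.w i q').val, C.η i s * C.η i q' * M')] :=
      len_le_two_ext l1 (by simp) (by rw [entry0_w C Hm i h hM (by rw [a]; rfl)]; rfl)
        (by rw [entry1_w C Hm i h hM' (by rw [a]; rfl)]; rfl)
    have B : D.chainEntry (C.w i s).val (C.w i r).val =
        [((C.w i q).val, C.η i s * C.η i r * C.η i q * -M)] :=
      len_le_two_ext l2 (by simp) (by rw [entry0_w C Hm i h' (neg_ne_zero.2 hM) (by rw [b]; rfl)]; rfl)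
        (by rw [entry_none_w C Hm i h' 1 (by omega) (by rw [b]; rfl)]; rfl)
    simp only [terms]
    rw [e]
    simp [ChevalleyDatum.commTerms, ChevalleyDatum.chainRoot, ChevalleyDatum.chainM, A, B,
      liftTerm, mapTerm, pow_two, hηr]
  · have A : D.chainEntry (C.w i r).val (C.w i s).val =
        [((C.w i q).val, C.η i r * C.η i s * C.η i q * M)] :=
      len_le_two_ext l1 (by simp) (by rw [entry0_w C Hm i h hM (by rw [a]; rfl)]; rfl)
        (by rw [entry_none_w C Hm i h 1 (by omega) (by rw [a]; rfl)]; rfl)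
    have B : D.chainEntry (C.w i s).val (C.w i r).val = [((C.w i q).val, C.η i s * C.η i r * C.η i q * -M),
        ((C.w i q').val, C.η i r * C.η i q' * M')] :=
      len_le_two_ext l2 (by simp) (by rw [entry0_w C Hm i h' (neg_ne_zero.2 hM) (by rw [b]; rfl)]; rfl)
        (by rw [entry1_w C Hm i h' hM' (by rw [b]; rfl)]; rfl)
    simp only [terms]
    rw [e]
    simp [ChevalleyDatum.commTerms, ChevalleyDatum.chainRoot, ChevalleyDatum.chainM, A, B,
      liftTerm, mapTerm, pow_two, hηs]

end Chains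

section Formula

variable (C : Core D) {K : Type*} [Field K]
include C

theorem X_comm (H : CommOK C) (r s : Rt D) (hrs : s ≠ r) (hne : s ≠ r.rev) (t u : K) :
    (C.X K s u)⁻¹ * (C.X K r t)⁻¹ * C.X K s u * C.X K r t = evalT (C.X K) t u (terms r s) := by
  have e := H.comm_X r s hrs hne t u
  have e2 : ((D.commTerms r.val s.val).map fun c =>
      C.XN K c.1 ((c.2.1 : K) * (-t) ^ c.2.2.1 * u ^ c.2.2.2)).prod = evalT (C.X K) t u (terms r s) := by
    rw [commTerms_eq H r s hrs hne, List.map_map, evalT]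
    congr 1
    exact List.map_congr_left fun c _ => C.XN_fin K c.1 _
  rw [e2] at e
  calc (C.X K s u)⁻¹ * (C.X K r t)⁻¹ * C.X K s u * C.X K r t
      = (C.X K s u)⁻¹ * (C.X K r t)⁻¹ * (C.X K s u * C.X K r t) := by group
    _ = evalT (C.X K) t u (terms r s) := by rw [e]; group

end Formula

end Cfsg.Agent.Lib.CurtisTits
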