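import Cfsg.Agent.Lib.CurtisTits.Terms
import Cfsg.Agent.Lib.ChevStructure.Words
import Cfsg.Prelude.Def_CurtisTits
import Cfsg.Prelude.Def_SteinbergCover

/-!
The Curtis–Tits group, its map into the general linear group and the candidates for its root subgroups.
-/

set_option autoImplicit false
set_option linter.unusedSectionVars false

namespace Cfsg.Agent.Lib.CurtisTits

open Cfsg.Lie
open Cfsg.Agent.Lib.ChevStructure
open scoped MatrixGroups Matrix

variable {D : ChevalleyDatum}

/-- r lies in the subsystem spanned by the fundamental roots i and j. -/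
def InS (C : Core D) (i j : Fin D.rank) (r : Rt D) : Prop := ∀ k, k ≠ i → k ≠ j → C.v r k = 0

/-- r lies in some subsystem of rank two. -/
def Bas (C : Core D) (r : Rt D) : Prop := ∃ i j, InS C i j r

instance (C : Core D) (i j : Fin D.rank) (r : Rt D) : Decidable (InS C i j r) :=
  inferInstanceAs (Decidable (∀ k, k ≠ i → k ≠ j → C.v r k = 0))

instance (C : Core D) (r : Rt D) : Decidable (Bas C r) :=
  inferInstanceAs (Decidable (∃ i j, InS C i j r))

/-- The general hypotheses on the datum. -/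
structure Hyp (C : Core D) : Prop where
  ok : CommOK C
  supp : ∀ r k, co D r k = 0 ↔ C.v r k = 0
  unit : ∀ r, (∃ k, A D k r = 1 ∨ A D k r = -1) ∨ ∃ j, co D r j = 1 ∨ co D r j = -1

/-- Iterated fundamental reflections. -/
def act (C : Core D) : List (Fin D.rank) → Rt D → Rt D
  | [], r => r
  | i :: ws, r => C.w i (act C ws r)

/-- The sign picked up along a word. -/
def sgn (C : Core D) : List (Fin D.rank) → Rt D → ℤ
  | [], _ => 1
  | i :: ws, r => C.η i (act C ws r) * sgn C ws r

/-- For each root a word carrying a root of a rank two subsystem to it. -/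
structure Tree (C : Core D) where
  wd : Rt D → List (Fin D.rank)
  bs : Rt D → Rt D
  act_wd : ∀ r, act C (wd r) (bs r) = r
  bs_bas : ∀ r, Bas C (bs r)
  wd_bas : ∀ r, Bas C r → wd r = [] ∧ bs r = r

section Facts

variable (C : Core D) (h : Hyp C)
include C

theorem inS_comm {i j : Fin D.rank} {r : Rt D} (hr : InS C i j r) : InS C j i r :=
  fun k a b => hr k b a

theorem inS_rev {i j : Fin D.rank} {r : Rt D} (hr : InS C i j r) : InS C i j r.rev :=
  fun k a b => by rw [C.v_rev]; simp [hr k a b]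

theorem inS_p (i j : Fin D.rank) : InS C i j (C.p i) :=
  fun k a _ => by simp [C.v_p, a]

theorem inS_p_right (i j : Fin D.rank) : InS C i j (C.p j) :=
  fun k _ b => by simp [C.v_p, b]

theorem inS_w {i j : Fin D.rank} {r : Rt D} (hr : InS C i j r) : InS C i j (C.w i r) :=
  fun k a b => by rw [C.v_w]; simp [hr k a b, a]

theorem bas_of {i j : Fin D.rank} {r : Rt D} (hr : InS C i j r) : Bas C r := ⟨i, j, hr⟩

theorem bas_p (i : Fin D.rank) : Bas C (C.p i) := bas_of C (inS_p C i i)

theorem bas_p_rev (i : Fin D.rank) : Bas C (C.p i).rev := bas_of C (inS_rev C (inS_p C i i))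

include h

theorem inS_iff {i j : Fin D.rank} {r : Rt D} :
    D.InRankTwoSub i.val j.val r.val ↔ InS C i j r := by
  constructor
  · rintro ⟨-, -, -, H⟩ k a b
    exact (h.supp r k).1 (H k.val k.isLt (fun e => a (Fin.ext e)) (fun e => b (Fin.ext e)))
  · intro H
    refine ⟨r.isLt, i.isLt, j.isLt, fun k hk a b => ?_⟩
    exact (h.supp r ⟨k, hk⟩).2 (H ⟨k, hk⟩ (fun e => a (congrArg Fin.val e)) (fun e => b (congrArg Fin.val e)))

theorem exists_inS {i j r : ℕ} (H : D.InRankTwoSub i j r) :
    ∃ (a b : Fin D.rank) (x : Rt D), a.val = i ∧ b.val = j ∧ x.val = r ∧ InS C a b x :=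
  ⟨⟨i, H.2.1⟩, ⟨j, H.2.2.1⟩, ⟨r, H.1⟩, rfl, rfl, rfl, (inS_iff C h).1 H⟩

theorem bas_iff {r : Rt D} : (∃ i j : ℕ, D.InRankTwoSub i j r.val) ↔ Bas C r := by
  constructor
  · rintro ⟨i, j, H⟩
    obtain ⟨a, b, x, -, -, hx, hs⟩ := exists_inS C h H
    exact ⟨a, b, Fin.ext hx ▸ hs⟩
  · rintro ⟨i, j, H⟩
    exact ⟨i, j, (inS_iff C h).2 H⟩

theorem inS_terms {i j : Fin D.rank} {r s : Rt D} (hrs : s ≠ r) (hne : s ≠ r.rev) (hr : InS C i j r)
    (hs : InS C i j s) (e : Term D) (he : e ∈ terms r s) : InS C i j e.1 := by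
  intro k hk hk'
  rw [(terms_weight h.ok hrs hne he).2.2]
  simp [hr k hk hk', hs k hk hk']

theorem neg_val (r : Rt D) : D.neg r.val = r.rev.val := C.neg_eq r

end Facts

/-! ### the group -/

variable {K : Type*} [Field K]

/-- The Curtis–Tits relators other than those on the h̄. -/
def ctwRels (D : ChevalleyDatum) (K : Type*) [Field K] : Set (FreeGroup (Fin D.nroots × K)) :=
  {g | ∃ (r : ℕ) (t : K), r < D.nroots ∧ (∀ i j : ℕ, ¬ D.InRankTwoSub i j r) ∧ g = D.stX r t} ∪
  {g | ∃ (i j r : ℕ) (t₁ t₂ : K), D.InRankTwoSub i j r ∧ g = D.stX r t₁ * D.stX r t₂ * (D.stX r (t₁ + t₂))⁻¹} ∪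
  {g | ∃ (i j r s : ℕ) (t u : K), D.InRankTwoSub i j r ∧ D.InRankTwoSub i j s ∧ s ≠ r ∧ s ≠ D.neg r ∧
      g = (D.stX s u)⁻¹ * (D.stX r t)⁻¹ * D.stX s u * D.stX r t * (D.stWord (D.commWord K r s t u))⁻¹}

/-- The group presented by these relators. -/
abbrev CTW (D : ChevalleyDatum) (K : Type*) [Field K] : Type _ := PresentedGroup (ctwRels D K)

theorem ctwRels_subset : ctwRels D K ⊆ D.curtisTitsRels K := fun _ hg => Or.inl hg

/-- The generator x̄_r(t) of this group. -/
def gen (r : Rt D) (t : K) : CTW D K :=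
  PresentedGroup.mk (ctwRels D K) (D.stX r.val t)

theorem gen_of (r : Rt D) (t : K) : gen r t = PresentedGroup.of (r, t) := by
  simp [gen, ChevalleyDatum.stX, PresentedGroup.of]

theorem mk_stWord_terms (L : List (Term D)) (t u : K) :
    PresentedGroup.mk (ctwRels D K)
        (D.stWord (L.map fun e => (e.1.val, (e.2.1 : K) * (-t) ^ e.2.2.1 * u ^ e.2.2.2))) =
      evalT gen t u L := by
  simp only [ChevalleyDatum.stWord, evalT, map_list_prod, List.map_map]
  rfl

section

variable (C : Core D) (h : Hyp C)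
include C h

theorem gen_not_bas {r : Rt D} (hr : ¬ Bas C r) (t : K) : gen r t = 1 := by
  refine PresentedGroup.one_of_mem (Or.inl (Or.inl ⟨r.val, t, r.isLt, ?_, rfl⟩))
  exact fun i j H => hr ((bas_iff C h).1 ⟨i, j, H⟩)

theorem gen_add {r : Rt D} (hr : Bas C r) (t u : K) : gen r t * gen r u = gen r (t + u) := by
  obtain ⟨i, j, H⟩ := hr
  rw [← mul_inv_eq_one]
  exact PresentedGroup.one_of_mem (rels := ctwRels D K)
    ((Or.inl (Or.inr ⟨i, j, r.val, t, u, (inS_iff C h).2 H, rfl⟩)))

theorem gen_comm {i j : Fin D.rank} {r s : Rt D} (hr : InS C i j r) (hs : InS C i j s) (hne : s ≠ r)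
    (hne' : s ≠ r.rev) (t u : K) :
    (gen s u)⁻¹ * (gen r t)⁻¹ * gen s u * gen r t = evalT gen t u (terms r s) := by
  rw [← mk_stWord_terms, ← commWord_eq h.ok r s hne hne', ← mul_inv_eq_one]
  exact PresentedGroup.one_of_mem (rels := ctwRels D K)
    (Or.inr ⟨i, j, r.val, s.val, t, u, (inS_iff C h).2 hr, (inS_iff C h).2 hs,
      fun e => hne (Fin.ext e), fun e => hne' (Fin.ext (by rw [e, neg_val C h r])), rfl⟩)

end

/-- The value of θ on a generator. -/
def thetaGen (C : Core D) (K : Type*) [Field K] (x : Fin D.nroots × K) : GL D.Idx K :=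
  if Bas C x.1 then C.X K x.1 x.2 else 1

theorem lift_stX (C : Core D) (r : Rt D) (t : K) :
    FreeGroup.lift (thetaGen C K) (D.stX r.val t) = thetaGen C K (r, t) := by
  simp [ChevalleyDatum.stX]

theorem lift_stWord {G : Type*} [Group G] (f : Fin D.nroots × K → G) (L : List (Rt D × K)) :
    FreeGroup.lift f (D.stWord (L.map fun e => (e.1.val, e.2))) = (L.map fun e => f e).prod := by
  simp [ChevalleyDatum.stWord, map_list_prod, List.map_map, Function.comp_def, ChevalleyDatum.stX]

theorem theta_relsW (C : Core D) (h : Hyp C) :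
    ∀ g ∈ ctwRels D K, FreeGroup.lift (thetaGen C K) g = 1 := by
  rintro g ((⟨r, t, hr, hn, rfl⟩ | ⟨i, j, r, t, u, H, rfl⟩) | ⟨i, j, r, s, t, u, H, H', hne, hne', rfl⟩)
  · lift r to Rt D using hr
    rw [lift_stX, thetaGen, if_neg]
    exact fun ⟨a, b, hab⟩ => hn a b ((inS_iff C h).2 hab)
  · obtain ⟨a, b, x, -, -, rfl, hs⟩ := exists_inS C h H
    simp only [map_mul, map_inv, lift_stX, thetaGen, if_pos (bas_of C hs), C.X_add, mul_inv_cancel]
  · obtain ⟨a, b, x, rfl, rfl, rfl, hx⟩ := exists_inS C h H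
    lift s to Rt D using H'.1 with y
    have hy : InS C a b y := (inS_iff C h).1 H'
    have h0 : y ≠ x := fun e => hne (congrArg Fin.val e)
    have h1 : y ≠ x.rev := fun e => hne' (by rw [e, neg_val C h x])
    have e1 : FreeGroup.lift (thetaGen C K) (D.stWord (D.commWord K x.val y.val t u)) =
        evalT (C.X K) t u (terms x y) := by
      rw [commWord_eq h.ok x y h0 h1]
      simp only [ChevalleyDatum.stWord, map_list_prod, List.map_map, evalT]
      congr 1
      refine List.map_congr_left fun e he => ?_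
      simp only [Function.comp_apply, lift_stX, thetaGen]
      rw [if_pos (bas_of C (inS_terms C h h0 h1 hx hy e he))]
    simp only [map_mul, map_inv, lift_stX, e1, thetaGen, if_pos (bas_of C hx), if_pos (bas_of C hy),
      X_comm C h.ok x y h0 h1, mul_inv_cancel]

/-- The map into the general linear group. -/
def theta (C : Core D) (h : Hyp C) : CTW D K →* GL D.Idx K :=
  PresentedGroup.toGroup (theta_relsW C h)

section

variable (C : Core D) (h : Hyp C)
include C h

theorem theta_gen {r : Rt D} (hr : Bas C r) (t : K) : theta C h (gen r t) = C.X K r t := by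
  rw [gen_of, theta, PresentedGroup.toGroup.of]
  exact if_pos hr

theorem gen_zero {r : Rt D} (hr : Bas C r) : gen r (0 : K) = 1 := by
  have e := gen_add C h hr (0 : K) 0
  rw [add_zero] at e
  exact mul_eq_left.1 e

theorem gen_inv {r : Rt D} (hr : Bas C r) (t : K) : (gen r t)⁻¹ = gen r (-t) :=
  inv_eq_of_mul_eq_one_right (by rw [gen_add C h hr, add_neg_cancel, gen_zero C h hr])

theorem X_inj (r : Rt D) {t u : K} (e : C.X K r t = C.X K r u) : t = u := by
  have : C.X K r (t - u) = 1 := by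
    rw [sub_eq_add_neg, ← C.X_add, e, C.X_add, add_neg_cancel, C.X_zero]
  have h2 : xI D K r (t - u) = 1 := congrArg Units.val this
  exact sub_eq_zero.1 ((C.x_eq_one_iff r _).1 h2)

end

theorem X_entry_A (C : Core D) (r : Rt D) (k : Fin D.rank) (t : K) :
    xI D K r t (Sum.inr r) (Sum.inl k) = -(A D k r : K) * t := by
  simp [xI, Finset.sum_range_succ, Ek, E, mul_comm]

theorem X_entry_co (C : Core D) (r : Rt D) (j : Fin D.rank) (t : K) :
    xI D K r t (Sum.inl j) (Sum.inr r.rev) = (co D r j : K) * t := by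
  simp [xI, Finset.sum_range_succ, Ek, E, mul_comm]

theorem coeff_zero (C : Core D) (h : Hyp C) (r : Rt D) {t : K}
    (h1 : ∀ k, xI D K r t (Sum.inr r) (Sum.inl k) = 0)
    (h2 : ∀ j, xI D K r t (Sum.inl j) (Sum.inr r.rev) = 0) : t = 0 := by
  rcases h.unit r with ⟨k, hk⟩ | ⟨j, hj⟩
  · have e := h1 k
    rw [X_entry_A C] at e
    rcases hk with hk | hk <;> simpa [hk] using e
  · have e := h2 j
    rw [X_entry_co C] at e
    rcases hj with hj | hj <;> simpa [hj] using e

/-- n̄ for a fundamental root and a parameter. -/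
def nW (C : Core D) (i : Fin D.rank) (c : K) : CTW D K :=
  gen (C.p i) c * gen (C.p i).rev (-c⁻¹) * gen (C.p i) c

/-- n̄_i = n̄_{p_i}(1). -/
def nn (C : Core D) (i : Fin D.rank) : CTW D K := nW C i 1

/-- The product of the n̄ along a word. -/
def nv (C : Core D) : List (Fin D.rank) → CTW D K
  | [] => 1
  | i :: ws => nn C i * nv C ws

section

variable (C : Core D) (h : Hyp C)
include C h

theorem theta_nW (i : Fin D.rank) (c : Kˣ) : theta C h (nW C i (c : K)) = C.nR K (C.p i) c := by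
  simp [nW, theta_gen C h, bas_p C, bas_p_rev C, Core.nR]

theorem theta_nn (i : Fin D.rank) : theta C h (nn C i : CTW D K) = C.P K i := by
  rw [nn, ← Units.val_one, theta_nW C h, Core.P]

theorem P_conj_word (ws : List (Fin D.rank)) (r : Rt D) (t : K) :
    theta C h (nv C ws) * C.X K r t * (theta C h (nv C ws))⁻¹ = C.X K (act C ws r) ((sgn C ws r : K) * t) := by
  induction ws with
  | nil => simp [nv, act, sgn]
  | cons i ws ih =>
    rw [nv, map_mul, theta_nn C h, mul_inv_rev,
      show C.P K i * theta C h (nv C ws) * C.X K r t * ((theta C h (nv C ws))⁻¹ * (C.P K i)⁻¹) =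
        C.P K i * (theta C h (nv C ws) * C.X K r t * (theta C h (nv C ws))⁻¹) * (C.P K i)⁻¹ by group,
      ih, C.P_X_conj]
    simp [act, sgn, mul_assoc]

end

theorem sgn_mul_self (C : Core D) (ws : List (Fin D.rank)) (r : Rt D) : sgn C ws r * sgn C ws r = 1 := by
  induction ws with
  | nil => simp [sgn]
  | cons i ws ih =>
    simp only [sgn]
    linear_combination (C.η i (act C ws r) * C.η i (act C ws r)) * ih + C.η_mul_self i (act C ws r)

theorem act_rev (C : Core D) (ws : List (Fin D.rank)) (r : Rt D) : act C ws r.rev = (act C ws r).rev := by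
  induction ws with
  | nil => rfl
  | cons i ws ih => rw [act, act, ih, C.w_rev]

theorem sgn_rev (C : Core D) (ws : List (Fin D.rank)) (r : Rt D) : sgn C ws r.rev = sgn C ws r := by
  induction ws with
  | nil => rfl
  | cons i ws ih => rw [sgn, sgn, ih, act_rev, C.η_rev]

/-- The candidate for x̄_r(t). -/
def Y (C : Core D) (T : Tree C) (r : Rt D) (t : K) : CTW D K :=
  nv C (T.wd r) * gen (T.bs r) ((sgn C (T.wd r) (T.bs r) : K) * t) * (nv C (T.wd r))⁻¹

section

variable (C : Core D) (h : Hyp C) (T : Tree C)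
include C h T

theorem theta_Y (r : Rt D) (t : K) : theta C h (Y C T r t) = C.X K r t := by
  rw [Y, map_mul, map_mul, map_inv, theta_gen C h (T.bs_bas r), P_conj_word C h, T.act_wd, ← mul_assoc,
    ← Int.cast_mul, sgn_mul_self]
  simp

theorem Y_bas {r : Rt D} (hr : Bas C r) (t : K) : Y C T r t = gen r t := by
  obtain ⟨a, b⟩ := T.wd_bas r hr
  rw [Y, a, b]
  simp [nv, sgn]

theorem Y_add (r : Rt D) (t u : K) : Y C T r t * Y C T r u = Y C T r (t + u) := by
  simp only [Y]
  rw [mul_add, ← gen_add C h (T.bs_bas r)]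
  group

theorem Y_zero (r : Rt D) : Y C T r (0 : K) = 1 := by
  have e := Y_add C h T r (0 : K) 0
  rw [add_zero] at e
  exact mul_eq_left.1 e

theorem Y_inv (r : Rt D) (t : K) : (Y C T r t)⁻¹ = Y C T r (-t) :=
  inv_eq_of_mul_eq_one_right (by rw [Y_add C h T, add_neg_cancel, Y_zero C h T])

end

/-- The candidate root subgroup. -/
def Xs (C : Core D) (h : Hyp C) (T : Tree C) (K : Type*) [Field K] (r : Rt D) :
    Subgroup (CTW D K) where
  carrier := Set.range (Y C T r)
  one_mem' := ⟨0, Y_zero C h T r⟩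
  mul_mem' := by
    rintro _ _ ⟨a, rfl⟩ ⟨b, rfl⟩
    exact ⟨a + b, (Y_add C h T r a b).symm⟩
  inv_mem' := by
    rintro _ ⟨a, rfl⟩
    exact ⟨-a, (Y_inv C h T r a).symm⟩

/-- Conjugation of subgroups. -/
def cj {G : Type*} [Group G] (g : G) (S : Subgroup G) : Subgroup G := S.map (MulAut.conj g).toMonoidHom

theorem cj_mul {G : Type*} [Group G] (g g' : G) (S : Subgroup G) : cj (g * g') S = cj g (cj g' S) := by
  rw [cj, cj, cj, Subgroup.map_map]
  congr 1
  ext x
  simp [mul_assoc]

theorem cj_one {G : Type*} [Group G] (S : Subgroup G) : cj (1 : G) S = S := by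
  rw [cj]
  convert S.map_id
  ext x
  simp

theorem cj_inv {G : Type*} [Group G] (g : G) {S S' : Subgroup G} (e : cj g S = S') : cj g⁻¹ S' = S := by
  rw [← e, ← cj_mul, inv_mul_cancel, cj_one]

theorem cj_inj {G : Type*} [Group G] (g : G) {S S' : Subgroup G} (e : cj g S = cj g S') : S = S' := by
  rw [← cj_inv g (S := S) rfl, e, cj_inv g rfl]

section

variable (C : Core D) (h : Hyp C) (T : Tree C)
include C h T

theorem mem_Xs {r : Rt D} {g : CTW D K} : g ∈ Xs C h T K r ↔ ∃ t, g = Y C T r t :=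
  ⟨fun ⟨t, e⟩ => ⟨t, e.symm⟩, fun ⟨t, e⟩ => ⟨t, e.symm⟩⟩

theorem Y_of_mem {r : Rt D} {g : CTW D K} {t : K} (hg : g ∈ Xs C h T K r)
    (e : theta C h g = C.X K r t) : g = Y C T r t := by
  obtain ⟨u, rfl⟩ := (mem_Xs C h T).1 hg
  rw [theta_Y C h T] at e
  rw [X_inj C h r e]

/-- A conjugate lying in a root subgroup, with a known image, gives an equality of subgroups. -/
theorem cj_of_param {r q : Rt D} {g : CTW D K} (a : Kˣ)
    (e : ∀ t, g * Y C T r t * g⁻¹ = Y C T q ((a : K) * t)) : cj g (Xs C h T K r) = Xs C h T K q := by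
  ext x
  simp only [cj, Subgroup.mem_map, mem_Xs C h T, MulEquiv.coe_toMonoidHom, MulAut.conj_apply]
  constructor
  · rintro ⟨_, ⟨t, rfl⟩, rfl⟩
    exact ⟨_, e t⟩
  · rintro ⟨t, rfl⟩
    exact ⟨_, ⟨(↑a⁻¹ : K) * t, rfl⟩, by rw [e, ← mul_assoc, Units.mul_inv, one_mul]⟩

theorem param_of_cj {r q : Rt D} {g : CTW D K} (e : cj g (Xs C h T K r) = Xs C h T K q)
    {a : K} {t : K} (hθ : theta C h g * C.X K r t * (theta C h g)⁻¹ = C.X K q (a * t)) :
    g * Y C T r t * g⁻¹ = Y C T q (a * t) := by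
  refine Y_of_mem C h T ?_ (by simpa [theta_Y C h T] using hθ)
  rw [← e]
  exact ⟨_, ⟨t, rfl⟩, rfl⟩

/-- The edge (i, r): n̄_i carries the root subgroup of r onto that of w_i r. -/
def Edge (K : Type*) [Field K] (i : Fin D.rank) (r : Rt D) : Prop :=
  cj (nn C i) (Xs C h T K r) = Xs C h T K (C.w i r)

theorem Edge.param {i : Fin D.rank} {r : Rt D} (e : Edge C h T K i r) (t : K) :
    nn C i * Y C T r t * (nn C i)⁻¹ = Y C T (C.w i r) ((C.η i r : K) * t) :=
  param_of_cj C h T e (by rw [theta_nn C h, C.P_X_conj])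

theorem path_cj {r : Rt D} : ∀ {ws : List (Fin D.rank)},
    (∀ a i b, ws = a ++ i :: b → Edge C h T K i (act C b r)) →
      cj (nv C ws) (Xs C h T K r) = Xs C h T K (act C ws r)
  | [], _ => by rw [nv, cj_one]; rfl
  | i :: ws, H => by
    rw [nv, cj_mul, path_cj (ws := ws) (fun a j b e => H (i :: a) j b (by rw [e]; rfl)), act]
    exact H [] i ws rfl

theorem path_param {r : Rt D} {ws : List (Fin D.rank)}
    (H : ∀ a i b, ws = a ++ i :: b → Edge C h T K i (act C b r)) (t : K) :
    nv C ws * Y C T r t * (nv C ws)⁻¹ = Y C T (act C ws r) ((sgn C ws r : K) * t) :=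
  param_of_cj C h T (path_cj C h T H) (P_conj_word C h ws r t)

end

end Cfsg.Agent.Lib.CurtisTits
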